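import Cfsg.Agent.Coset.Checker
import Mathlib.GroupTheory.GroupAction.Basic
import Mathlib.GroupTheory.GroupAction.Quotient
import Mathlib.GroupTheory.Coset.Card

/-!
Consequences of a complete coset table: upper bounds for (relative) indices and, with the
permutation action given by the table, exact indices.
-/

set_option autoImplicit false

namespace CfsgLib.Coset

section Kernel

/-- Equality test for words. -/
noncomputable def wordEq (u : List Nat) : List Nat → Bool :=
  List.rec (fun v => List.rec true (fun _ _ _ => false) v)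
    (fun a _ ih v => List.rec false (fun b t _ => cond (Nat.beq a b) (ih t) false) v) u

/-- All members of a list pass. -/
noncomputable def allList {α : Type} (p : α → Bool) (l : List α) : Bool :=
  List.rec true (fun a _ ih => cond (p a) ih false) l

/-- No marker in any of the words. -/
noncomputable def noMrk (ws : List (List Nat)) : Bool :=
  allList (allList (fun x => cond (Nat.beq x mrk) false true)) ws

/-- Rotation of a word. -/
def rot (w : List Nat) (j : Nat) : List Nat := w.drop j ++ w.take j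

/-- Rotation of a subgroup word with its marker. -/
def rotMark (w : List Nat) (j : Nat) : List Nat := w.drop j ++ mrk :: w.take j

/-- Each rule is a rotation of a relator or a marked rotation of a subgroup word. -/
noncomputable def checkRules (rels subs : List (List Nat)) (R : Tr (List Nat × Nat)) : Bool :=
  cond (noMrk rels) (cond (noMrk subs)
    (R.all fun p => cond (Nat.beq (Nat.land p.2 1) 0)
      (wordEq p.1 (rot (rels.getD (Nat.shiftRight p.2 9) []) (Nat.land (Nat.shiftRight p.2 1) 255)))
      (wordEq p.1 (rotMark (subs.getD (Nat.shiftRight p.2 9) []) (Nat.land (Nat.shiftRight p.2 1) 255))))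
    false) false

/-- Table lookup. -/
noncomputable def tget (Tb : Nat → Nat) (i l : Nat) : Nat := field (Tb i) l

/-- An edge is the claimed one. -/
noncomputable def edgeIs (iv : Nat → Nat) (v d p l q : Nat) : Bool :=
  cond (Nat.beq d 0)
    (cond (Nat.beq (eb v) p) (cond (Nat.beq (ex v) l) (Nat.beq (ea v) q) false) false)
    (cond (Nat.beq (ea v) p) (cond (Nat.beq (iv (ex v)) l) (Nat.beq (eb v) q) false) false)

/-- Every entry of the table is a proven edge. -/
noncomputable def checkTable (E iv : Nat → Nat) (bd n k dn dk : Nat) (Rep Ref Tb : Nat → Nat) :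
    Bool :=
  cond (Nat.beq (Rep 0) 0) (allBelow dn n fun i => allBelow dk k fun l =>
    cond (Nat.ble (Nat.add (tget Tb i l) 1) n)
      (cond (Nat.ble (Nat.add (Nat.shiftRight (tget Ref i l) 1) 1) bd)
        (edgeIs iv (E (Nat.shiftRight (tget Ref i l) 1)) (Nat.land (tget Ref i l) 1)
          (Rep i) l (Rep (tget Tb i l))) false) false) false

/-- The table gives permutations. -/
noncomputable def checkPerm (iv : Nat → Nat) (n k dn dk : Nat) (Tb : Nat → Nat) : Bool :=
  cond (allBelow dn n fun i => allBelow dk k fun l =>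
      cond (Nat.ble (Nat.add (tget Tb i l) 1) n)
        (Nat.beq (tget Tb (tget Tb i l) (iv l)) i) false)
    (allBelow dk k fun l => cond (Nat.ble (Nat.add (iv l) 1) k) (Nat.beq (iv (iv l)) l) false)
    false

/-- Every relator fixes every point. -/
noncomputable def checkRels (n dn : Nat) (Tb : Nat → Nat) (rels : List (List Nat)) : Bool :=
  allBelow dn n fun i => allList (fun w => Nat.beq (follow (tget Tb) i w) i) rels

/-- A spanning tree of the Schreier graph. -/
noncomputable def checkTrans (n k dn : Nat) (Tb Par : Nat → Nat) : Bool :=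
  allBelow dn n fun i => cond (Nat.beq i 0) true
    (cond (Nat.ble (Nat.add (field (Par i) 0) 1) i)
      (cond (Nat.ble (Nat.add (field (Par i) 1) 1) k)
        (Nat.beq (tget Tb (field (Par i) 0) (field (Par i) 1)) i) false) false)

end Kernel

theorem allList_iff {α : Type} {p : α → Bool} {l : List α} :
    allList p l = true ↔ ∀ x ∈ l, p x = true := by
  induction l with
  | nil => simp [allList]
  | cons a t ih =>
    change cond (p a) (allList p t) false = true ↔ _
    rw [cond_false_eq_true, ih]; simp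

theorem eq_of_wordEq : ∀ {u v : List Nat}, wordEq u v = true → u = v := by
  intro u
  induction u with
  | nil => intro v h; cases v with
    | nil => rfl
    | cons b t => simp [wordEq] at h
  | cons a s ih => intro v h; cases v with
    | nil => simp [wordEq] at h
    | cons b t =>
      change cond (Nat.beq a b) (wordEq s t) false = true at h
      rw [cond_false_eq_true] at h
      rw [Nat.eq_of_beq_eq_true h.1, ih h.2]

variable {G : Type*} [Group G] {L : List G} {H : Subgroup G}

theorem good_of_checkRules {rels subs : List (List Nat)} {R : Tr (List Nat × Nat)}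
    (h : checkRules rels subs R = true) (hrel : ∀ w ∈ rels, ev L w = 1)
    (hsub : ∀ w ∈ subs, ev L w ∈ H) (i : Nat) (e : G) : Good L H e e (R.get i).1 := by
  unfold checkRules noMrk at h
  simp only [cond_false_eq_true, allList_iff] at h
  obtain ⟨h1, h2, h3⟩ := h
  have hm : ∀ (ws : List (List Nat)), (∀ w ∈ ws, ∀ x ∈ w, cond (Nat.beq x mrk) false true = true) →
      ∀ j, mrk ∉ ws.getD j [] := by
    intro ws hws j hx
    rcases lt_or_ge j ws.length with hj | hj
    · rw [List.getD_eq_getElem _ _ hj] at hx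
      exact absurd (hws _ (List.getElem_mem hj) _ hx) (by decide)
    · rw [List.getD_eq_default _ _ hj] at hx; simp at hx
  have h4 := Tr.get_all R h3 i
  cases hk : Nat.beq (Nat.land (R.get i).2 1) 0
  · rw [hk, cond_false] at h4
    rw [eq_of_wordEq h4]
    refine good_sub L H _ _ (hm _ h2 _) ?_
    rcases lt_or_ge (Nat.shiftRight (R.get i).2 9) subs.length with hj | hj
    · rw [List.getD_eq_getElem _ _ hj]; exact hsub _ (List.getElem_mem hj)
    · rw [List.getD_eq_default _ _ hj]; exact H.one_mem
  · rw [hk, cond_true] at h4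
    rw [eq_of_wordEq h4]
    refine good_rotation L H _ _ (hm _ h1 _) ?_
    rcases lt_or_ge (Nat.shiftRight (R.get i).2 9) rels.length with hj | hj
    · rw [List.getD_eq_getElem _ _ hj]; exact hrel _ (List.getElem_mem hj)
    · rw [List.getD_eq_default _ _ hj]; rfl

theorem mem_closure_fl (l : Nat) : fl L l ∈ Subgroup.closure {x | x ∈ L} := by
  rcases lt_or_ge l L.length with hl | hl
  · refine Subgroup.subset_closure ?_
    show fl L l ∈ L
    rw [fl, List.getD_eq_getElem _ _ hl]
    exact List.getElem_mem hl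
  · rw [fl_of_le L hl]; exact one_mem _

theorem rp_mem_closure (E : Nat → Nat) (i : Nat) : rp L E i ∈ Subgroup.closure {x | x ∈ L} := by
  have : ∀ s i, rpAux L E s i ∈ Subgroup.closure {x | x ∈ L} := by
    intro s
    induction s with
    | zero => intro i; exact one_mem _
    | succ s ih =>
      intro i
      unfold rpAux
      split
      · exact one_mem _
      · exact mul_mem (ih _) (mem_closure_fl _)
  exact this _ _

/-- Everything needed about a verified table, as a proposition. -/
structure TableOK (L : List G) (H : Subgroup G) (E iv : Nat → Nat) (n : Nat) (Rep Tb : Nat → Nat) :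
    Prop where
  zero : Rep 0 = 0
  inv : ∀ x, fl L (iv x) = (fl L x)⁻¹
  lt : ∀ i < n, ∀ l < L.length, tget Tb i l < n
  step : ∀ i < n, ∀ l < L.length,
    rp L E (Rep i) * fl L l * (rp L E (Rep (tget Tb i l)))⁻¹ ∈ H

theorem tableOK_of_check {E iv : Nat → Nat} {R : Tr (List Nat × Nat)} {rels subs : List (List Nat)}
    {d d' N nC n dn dk : Nat} {C Rep Ref Tb : Nat → Nat}
    (hiv : ∀ x, fl L (iv x) = (fl L x)⁻¹)
    (hR : checkRules rels subs R = true) (hd : checkDefs E L.length d' N = true)
    (hc : checkChunks E iv R L.length d N nC C = true)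
    (ht : checkTable E iv (N + chunk * nC) n L.length dn dk Rep Ref Tb = true)
    (hrel : ∀ w ∈ rels, ev L w = 1) (hsub : ∀ w ∈ subs, ev L w ∈ H) :
    TableOK L H E iv n Rep Tb := by
  have hE := edgeOK_of_check (fl_of_le L le_rfl) hiv (good_of_checkRules hR hrel hsub) hd hc
  unfold checkTable at ht
  rw [cond_false_eq_true] at ht
  have h : ∀ i < n, ∀ l < L.length, tget Tb i l < n ∧
      rp L E (Rep i) * fl L l * (rp L E (Rep (tget Tb i l)))⁻¹ ∈ H := by
    intro i hi l hl
    have h1 := of_allBelow (of_allBelow ht.2 i hi) l hl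
    simp only [cond_false_eq_true] at h1
    obtain ⟨hlt, hb, he⟩ := h1
    refine ⟨Nat.ble_eq.mp hlt, ?_⟩
    have hv := hE _ (Nat.ble_eq.mp hb)
    unfold edgeIs at he
    generalize E (Nat.shiftRight (tget Ref i l) 1) = v at hv he
    cases hd : Nat.beq (Nat.land (tget Ref i l) 1) 0
    · rw [hd, cond_false] at he
      simp only [cond_false_eq_true] at he
      obtain ⟨h1, h2, h3⟩ := he
      rw [← Nat.eq_of_beq_eq_true h3, ← Nat.eq_of_beq_eq_true h1, ← Nat.eq_of_beq_eq_true h2, hiv]
      simpa [EdgeOK, mul_inv_rev, mul_assoc] using H.inv_mem hv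
    · rw [hd, cond_true] at he
      simp only [cond_false_eq_true] at he
      obtain ⟨h1, h2, h3⟩ := he
      rw [← Nat.eq_of_beq_eq_true h3, ← Nat.eq_of_beq_eq_true h1, ← Nat.eq_of_beq_eq_true h2]
      exact hv
  exact ⟨Nat.eq_of_beq_eq_true ht.1, hiv, fun i hi l hl => (h i hi l hl).1,
    fun i hi l hl => (h i hi l hl).2⟩

variable {E iv : Nat → Nat} {n : Nat} {Rep Tb : Nat → Nat}

theorem TableOK.mem_of_follow (h : TableOK L H E iv n Rep Tb) :
    ∀ (w : List Nat) (i : Nat), i < n → (∀ l ∈ w, l < L.length) →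
      rp L E (Rep i) * ev L w * (rp L E (Rep (follow (tget Tb) i w)))⁻¹ ∈ H := by
  intro w
  induction w with
  | nil => intro i _ _; simp [follow_nil]
  | cons l w ih =>
    intro i hi hl
    rw [follow_cons, ev_cons]
    have h1 := h.step i hi l (hl l (by simp))
    have h2 := ih _ (h.lt i hi l (hl l (by simp))) (fun x hx => hl x (by simp [hx]))
    simpa [mul_assoc] using H.mul_mem h1 h2

theorem TableOK.ev_mem (h : TableOK L H E iv n Rep Tb) (hn : 0 < n) {w : List Nat}
    (hl : ∀ l ∈ w, l < L.length) (hw : follow (tget Tb) 0 w = 0) : ev L w ∈ H := by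
  have := h.mem_of_follow w 0 hn hl
  simpa [hw, h.zero, rp_zero] using this

theorem TableOK.cover (h : TableOK L H E iv n Rep Tb) (hn : 0 < n) {g : G}
    (hg : g ∈ Subgroup.closure {x | x ∈ L}) :
    ∃ i < n, g * (rp L E (Rep i))⁻¹ ∈ H := by
  have hstep : ∀ (x : G) (l : Nat), (∃ i < n, x * (rp L E (Rep i))⁻¹ ∈ H) →
      ∃ i < n, x * fl L l * (rp L E (Rep i))⁻¹ ∈ H := by
    rintro x l ⟨i, hi, hx⟩
    rcases lt_or_ge l L.length with hl | hl
    · exact ⟨_, h.lt i hi l hl, by simpa [mul_assoc] using H.mul_mem hx (h.step i hi l hl)⟩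
    · exact ⟨i, hi, by simpa [fl_of_le L hl] using hx⟩
  induction hg using Subgroup.closure_induction_right with
  | one => exact ⟨0, hn, by simp [h.zero, rp_zero]⟩
  | mul_right x hx y hy ih =>
    obtain ⟨l, hl, rfl⟩ := List.getElem_of_mem hy
    have := hstep x l ih
    rwa [fl, List.getD_eq_getElem _ _ hl] at this
  | mul_inv_cancel x hx y hy ih =>
    obtain ⟨l, hl, rfl⟩ := List.getElem_of_mem hy
    have := hstep x (iv l) ih
    rwa [h.inv, fl, List.getD_eq_getElem _ _ hl] at this

theorem TableOK.exists_surj (h : TableOK L H E iv n Rep Tb) (hn : 0 < n) :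
    ∃ f : Fin n → (Subgroup.closure {x | x ∈ L} : Subgroup G) ⧸
      H.subgroupOf (Subgroup.closure {x | x ∈ L}), Function.Surjective f := by
  refine ⟨fun i => QuotientGroup.mk ⟨_, inv_mem (rp_mem_closure (L := L) E (Rep i))⟩, fun q => ?_⟩
  induction q using QuotientGroup.induction_on with
  | _ g =>
    obtain ⟨i, hi, hg⟩ := h.cover hn (inv_mem g.2)
    refine ⟨⟨i, hi⟩, QuotientGroup.eq.mpr ?_⟩
    simpa [Subgroup.mem_subgroupOf, mul_inv_rev] using H.inv_mem hg

theorem TableOK.relIndex_le (h : TableOK L H E iv n Rep Tb) (hn : 0 < n) :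
    H.relIndex (Subgroup.closure {x | x ∈ L}) ≤ n ∧
      H.relIndex (Subgroup.closure {x | x ∈ L}) ≠ 0 := by
  obtain ⟨f, hf⟩ := h.exists_surj hn
  have : Finite ((Subgroup.closure {x | x ∈ L} : Subgroup G) ⧸
      H.subgroupOf (Subgroup.closure {x | x ∈ L})) := Finite.of_surjective f hf
  exact ⟨(Nat.card_le_card_of_surjective f hf).trans_eq (Nat.card_fin n), Nat.card_pos.ne'⟩

theorem TableOK.finite_card_le (h : TableOK L H E iv n Rep Tb) (hn : 0 < n)
    (hH : H ≤ Subgroup.closure {x | x ∈ L}) {m : Nat} (hf : Finite H) (hm : Nat.card H ≤ m) :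
    Finite (Subgroup.closure {x | x ∈ L} : Subgroup G) ∧
      Nat.card (Subgroup.closure {x | x ∈ L} : Subgroup G) ≤ n * m := by
  obtain ⟨h1, h2⟩ := h.relIndex_le hn
  have h3 : H.relIndex (Subgroup.closure {x | x ∈ L}) * Nat.card H =
      Nat.card (Subgroup.closure {x | x ∈ L} : Subgroup G) := by
    rw [mul_comm]
    have := Subgroup.card_mul_index (H.subgroupOf (Subgroup.closure {x | x ∈ L}))
    rwa [Nat.card_congr (Subgroup.subgroupOfEquivOfLe hH).toEquiv] at this
  refine ⟨Nat.finite_of_card_ne_zero ?_, h3 ▸ Nat.mul_le_mul h1 hm⟩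
  rw [← h3]
  exact mul_ne_zero h2 Nat.card_pos.ne'

section Perm

variable {k dn dk : Nat}

/-- The permutation of a letter: `i ↦ i · l⁻¹`. -/
noncomputable def sig (hp : checkPerm iv n k dn dk Tb = true) (l : Nat) : Equiv.Perm (Fin n) :=
  if hl : l < k then
    have h := (cond_false_eq_true.mp hp)
    have hiv := fun l (hl : l < k) => cond_false_eq_true.mp (of_allBelow h.2 l hl)
    have ht := fun i (hi : i < n) l (hl : l < k) =>
      cond_false_eq_true.mp (of_allBelow (of_allBelow h.1 i hi) l hl)
    { toFun := fun i => ⟨tget Tb i (iv l), Nat.ble_eq.mp (ht i i.2 (iv l) (Nat.ble_eq.mp (hiv l hl).1)).1⟩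
      invFun := fun i => ⟨tget Tb i l, Nat.ble_eq.mp (ht i i.2 l hl).1⟩
      left_inv := fun i => Fin.ext (by
        have := Nat.eq_of_beq_eq_true (ht i i.2 (iv l) (Nat.ble_eq.mp (hiv l hl).1)).2
        rwa [Nat.eq_of_beq_eq_true (hiv l hl).2] at this)
      right_inv := fun i => Fin.ext (Nat.eq_of_beq_eq_true (ht i i.2 l hl).2) }
  else 1

theorem sig_symm_apply (hp : checkPerm iv n k dn dk Tb = true) {l : Nat} (hl : l < k) (i : Fin n) :
    (((sig hp l)⁻¹ i : Fin n) : Nat) = tget Tb i l := by
  simp [sig, hl]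

/-- The list of permutations of all letters. -/
noncomputable def sigList (hp : checkPerm iv n k dn dk Tb = true) : List (Equiv.Perm (Fin n)) :=
  (List.range k).map (sig hp)

theorem fl_sigList (hp : checkPerm iv n k dn dk Tb = true) (l : Nat) :
    fl (sigList hp) l = sig hp l := by
  rcases lt_or_ge l k with hl | hl
  · simp [fl, sigList, List.getD_eq_getElem?_getD, hl]
  · rw [fl_of_le _ (by simp [sigList, hl]), sig, dif_neg (by omega)]

theorem ev_sigList_inv_apply (hp : checkPerm iv n k dn dk Tb = true) :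
    ∀ (w : List Nat) (i : Fin n), (∀ l ∈ w, l < k) →
      (((ev (sigList hp) w)⁻¹ i : Fin n) : Nat) = follow (tget Tb) i w := by
  intro w
  induction w with
  | nil => intro i _; simp [follow_nil]
  | cons l w ih =>
    intro i hl
    rw [ev_cons, mul_inv_rev, Equiv.Perm.mul_apply, follow_cons,
      ih _ (fun x hx => hl x (by simp [hx])), fl_sigList, sig_symm_apply hp (hl l (by simp))]

theorem ev_sigList_eq_one (hp : checkPerm iv n k dn dk Tb = true) {rels : List (List Nat)}
    {dn' : Nat} (hc : checkRels n dn' Tb rels = true) (hl : ∀ w ∈ rels, ∀ l ∈ w, l < k) :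
    ∀ w ∈ rels, ev (sigList hp) w = 1 := by
  intro w hw
  rw [← inv_eq_one]
  refine Equiv.ext fun i => Fin.ext ?_
  have h := allList_iff.mp (of_allBelow hc i i.2) w hw
  rw [ev_sigList_inv_apply hp w i (hl w hw), Nat.eq_of_beq_eq_true h]
  rfl

end Perm

section Action

variable {dn : Nat} {Par : Nat → Nat} {ρ : G →* Equiv.Perm (Fin n)}

/-- The action on points matches the table. -/
def Matches (L : List G) (ρ : G →* Equiv.Perm (Fin n)) (Tb : Nat → Nat) : Prop :=
  ∀ (l : Nat), l < L.length → ∀ i : Fin n, (((ρ (fl L l))⁻¹ i : Fin n) : Nat) = tget Tb i l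

theorem Matches.follow_eq (hm : Matches L ρ Tb) : ∀ (w : List Nat) (i : Fin n),
    (∀ l ∈ w, l < L.length) → (((ρ (ev L w))⁻¹ i : Fin n) : Nat) = follow (tget Tb) i w := by
  intro w
  induction w with
  | nil => intro i _; simp [follow_nil]
  | cons l w ih =>
    intro i hl
    rw [ev_cons, map_mul, mul_inv_rev, Equiv.Perm.mul_apply, follow_cons,
      ih _ (fun x hx => hl x (by simp [hx])), hm l (hl l (by simp))]

theorem Matches.fix_iff (hm : Matches L ρ Tb) {w : List Nat} {i : Fin n}
    (hl : ∀ l ∈ w, l < L.length) : ρ (ev L w) i = i ↔ follow (tget Tb) i w = i := by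
  rw [← hm.follow_eq w i hl, Fin.val_inj, Equiv.Perm.inv_def, Equiv.symm_apply_eq, eq_comm]

theorem Matches.transitive (hm : Matches L ρ Tb) (hn : 0 < n)
    (hc : checkTrans n L.length dn Tb Par = true) (i : Fin n) :
    ∃ g ∈ Subgroup.closure {x | x ∈ L}, ρ g ⟨0, hn⟩ = i := by
  obtain ⟨i, hi⟩ := i
  induction i using Nat.strong_induction_on with
  | _ i ih =>
    rcases Nat.eq_zero_or_pos i with rfl | h0
    · exact ⟨1, one_mem _, by simp⟩
    · have h : cond (Nat.beq i 0) true _ = true := of_allBelow hc i hi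
      have hb : Nat.beq i 0 = false := by
        cases hh : Nat.beq i 0
        · rfl
        · exact absurd (Nat.eq_of_beq_eq_true hh) (by omega)
      simp only [hb, cond_false, cond_false_eq_true] at h
      obtain ⟨h1, h2, h3⟩ := h
      have h1' : field (Par i) 0 < i := Nat.ble_eq.mp h1
      obtain ⟨g, hg, hge⟩ := ih _ h1' (by omega)
      refine ⟨(fl L (field (Par i) 1))⁻¹ * g, mul_mem (inv_mem (mem_closure_fl _)) hg, ?_⟩
      rw [map_mul, Equiv.Perm.mul_apply, hge, map_inv]
      exact Fin.ext ((hm _ (Nat.ble_eq.mp h2) _).trans (Nat.eq_of_beq_eq_true h3))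

/-- The preimage of a point stabiliser. -/
def pstab (ρ : G →* Equiv.Perm (Fin n)) (i : Fin n) : Subgroup G :=
  (MulAction.stabilizer (Equiv.Perm (Fin n)) i).comap ρ

theorem mem_pstab {i : Fin n} {g : G} : g ∈ pstab ρ i ↔ ρ g i = i := Iff.rfl

theorem exact_index (h : TableOK L H E iv n Rep Tb) (hm : Matches L ρ Tb) (hn : 0 < n)
    (hc : checkTrans n L.length dn Tb Par = true) (hgen : Subgroup.closure {x | x ∈ L} = ⊤)
    (hH : H ≤ pstab ρ ⟨0, hn⟩) :
    H.index = n ∧ H = pstab ρ ⟨0, hn⟩ := by
  obtain ⟨h1, h2⟩ := h.relIndex_le hn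
  rw [hgen, Subgroup.relIndex_top_right] at h1 h2
  let f : G ⧸ pstab ρ ⟨0, hn⟩ → Fin n := Quotient.lift (fun g => ρ g ⟨0, hn⟩) (fun a b hab => by
    have hab' : a⁻¹ * b ∈ pstab ρ ⟨0, hn⟩ := QuotientGroup.leftRel_apply.mp hab
    rw [mem_pstab, map_mul, map_inv, Equiv.Perm.mul_apply, Equiv.Perm.inv_def,
      Equiv.symm_apply_eq] at hab'
    exact hab'.symm)
  have hf : Function.Surjective f := fun i => by
    obtain ⟨g, _, hg⟩ := hm.transitive hn hc i
    exact ⟨QuotientGroup.mk g, hg⟩
  have h4 : (pstab ρ ⟨0, hn⟩).index ≤ H.index :=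
    Nat.le_of_dvd (Nat.pos_of_ne_zero h2) (Subgroup.index_dvd_of_le hH)
  have : (pstab ρ ⟨0, hn⟩).index ≠ 0 := fun h0 => h2 (Nat.eq_zero_of_zero_dvd
    (h0 ▸ Subgroup.index_dvd_of_le hH))
  have : Finite (G ⧸ pstab ρ ⟨0, hn⟩) := Nat.finite_of_card_ne_zero this
  have h5 : n ≤ (pstab ρ ⟨0, hn⟩).index := by
    have := Nat.card_le_card_of_surjective f hf
    simpa [Subgroup.index] using this
  refine ⟨by omega, le_antisymm hH ?_⟩
  have h6 := Subgroup.relIndex_mul_index hH
  have h7 : H.relIndex (pstab ρ ⟨0, hn⟩) = 1 := by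
    have e : H.index = (pstab ρ ⟨0, hn⟩).index := by omega
    rw [← e] at h6
    exact Nat.eq_one_of_mul_eq_one_right (m := H.relIndex (pstab ρ ⟨0, hn⟩)) (n := 1)
      (Nat.eq_of_mul_eq_mul_right (Nat.pos_of_ne_zero h2) (by simpa using h6))
  exact Subgroup.relIndex_eq_one.mp h7

end Action

end CfsgLib.Coset
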