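import Cfsg.Agent.Coset.Orbit
import Mathlib.GroupTheory.Sylow
import Mathlib.GroupTheory.Subgroup.Simple
import Mathlib.Data.Set.Card.Arithmetic

/-!
Simplicity from a primitive action: a group acting faithfully and primitively, in which the
`p`-part of the order divides the degree, has every nontrivial normal subgroup containing all
`p`-elements; a collapse certificate then shows that such a subgroup is everything.
-/

set_option autoImplicit false

namespace CfsgLib.Coset

variable {G : Type*} [Group G] {n : Nat} {ρ : G →* Equiv.Perm (Fin n)}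

/-- A point stabiliser is maximal when the sizes of its nontrivial orbits rule out blocks. -/
theorem pstab_isCoatom {r : Nat} (hn : 1 < n) (htr : ∀ i : Fin n, ∃ g, ρ g ⟨0, by omega⟩ = i)
    (A : Fin r → Set (Fin n))
    (hA : ∀ j, ∀ x ∈ A j, ∀ y ∈ A j, ∃ h ∈ pstab ρ ⟨0, by omega⟩, ρ h x = y)
    (hcov : ∀ i : Fin n, (i : Nat) ≠ 0 → ∃ j, i ∈ A j)
    (hsum : 1 + ∑ j, (A j).ncard = n)
    (hblock : ∀ s : Finset (Fin r), (1 + ∑ j ∈ s, (A j).ncard) ∣ n → s = ∅ ∨ s = Finset.univ) :
    IsCoatom (pstab ρ ⟨0, by omega⟩) := by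
  classical
  set z : Fin n := ⟨0, by omega⟩ with hz
  refine ⟨fun htop => ?_, fun K hK => ?_⟩
  · obtain ⟨g, hg⟩ := htr ⟨1, hn⟩
    have : g ∈ pstab ρ z := htop ▸ Subgroup.mem_top g
    rw [mem_pstab, hg] at this
    simp [hz, Fin.ext_iff] at this
  set T := orb ρ K z
  have hTinv : ∀ h ∈ pstab ρ z, ∀ x ∈ T, ρ h x ∈ T := fun h hh x hx =>
    orb_mapsTo z (hK.le hh) hx
  -- choose the orbits meeting `T`
  let s : Finset (Fin r) := Finset.univ.filter fun j => (A j ∩ T).Nonempty
  have hs : ∀ j, j ∈ s → A j ⊆ T := by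
    intro j hj y hy
    obtain ⟨x, hx, hxT⟩ := (Finset.mem_filter.mp hj).2
    obtain ⟨h, hh, rfl⟩ := hA j x hx y hy
    exact hTinv h hh x hxT
  have hns : ∀ j, j ∉ s → A j ⊆ Tᶜ := fun j hj y hy hyT =>
    hj (Finset.mem_filter.mpr ⟨Finset.mem_univ _, y, hy, hyT⟩)
  have hUT : ∀ t : Finset (Fin r), (⋃ j ∈ t, A j).ncard ≤ ∑ j ∈ t, (A j).ncard :=
    fun t => Finset.set_ncard_biUnion_le t A
  have h1 : T ⊆ {z} ∪ ⋃ j ∈ s, A j := by
    intro x hx
    rcases eq_or_ne x z with rfl | hxz
    · exact Or.inl rfl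
    · obtain ⟨j, hj⟩ := hcov x (fun h => hxz (Fin.ext h))
      refine Or.inr (Set.mem_biUnion (Finset.mem_filter.mpr ⟨Finset.mem_univ j, x, hj, hx⟩) hj)
  have h2 : Tᶜ ⊆ ⋃ j ∈ sᶜ, A j := by
    intro x hx
    have hxz : x ≠ z := fun h => hx (h ▸ self_mem_orb K z)
    obtain ⟨j, hj⟩ := hcov x (fun h => hxz (Fin.ext h))
    refine Set.mem_biUnion (Finset.mem_compl.mpr fun hjs => hx (hs j hjs hj)) hj
  have e1 : T.ncard ≤ 1 + ∑ j ∈ s, (A j).ncard :=
    ((Set.ncard_le_ncard h1 (Set.toFinite _)).trans (Set.ncard_union_le _ _)).trans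
      (by rw [Set.ncard_singleton]; exact Nat.add_le_add_left (hUT s) 1)
  have e2 : Tᶜ.ncard ≤ ∑ j ∈ sᶜ, (A j).ncard :=
    (Set.ncard_le_ncard h2 (Set.toFinite _)).trans (hUT _)
  have e3 : T.ncard + Tᶜ.ncard = n := by rw [Set.ncard_add_ncard_compl, Nat.card_fin]
  have e4 : ∑ j ∈ s, (A j).ncard + ∑ j ∈ sᶜ, (A j).ncard = ∑ j, (A j).ncard :=
    Finset.sum_add_sum_compl s _
  have hT : T.ncard = 1 + ∑ j ∈ s, (A j).ncard := by omega
  -- the orbit size divides the degree
  have hdvd : T.ncard ∣ n := by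
    let f : G ⧸ pstab ρ z → Fin n := Quotient.lift (fun g => ρ g z) (fun a b hab => by
      have hab' : a⁻¹ * b ∈ pstab ρ z := QuotientGroup.leftRel_apply.mp hab
      rw [mem_pstab, map_mul, map_inv, Equiv.Perm.mul_apply, Equiv.Perm.inv_def,
        Equiv.symm_apply_eq] at hab'
      exact hab'.symm)
    have hf : Function.Bijective f := by
      refine ⟨?_, fun i => (htr i).imp' (QuotientGroup.mk) (fun g hg => hg)⟩
      intro a b
      induction a using QuotientGroup.induction_on
      induction b using QuotientGroup.induction_on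
      rename_i a b
      intro h
      refine QuotientGroup.eq.mpr ?_
      rw [mem_pstab, map_mul, map_inv, Equiv.Perm.mul_apply, Equiv.Perm.inv_def, Equiv.symm_apply_eq]
      exact h.symm
    have hidx : (pstab ρ z).index = n := by
      rw [Subgroup.index, Nat.card_eq_of_bijective f hf, Nat.card_fin]
    have hrel : (pstab ρ z).relIndex K = T.ncard := by
      let g : K ⧸ (pstab ρ z).subgroupOf K → T :=
        Quotient.lift (fun k : K => (⟨ρ (k : G) z, k, k.2, rfl⟩ : T)) (fun a b hab => by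
          have h0 : a⁻¹ * b ∈ (pstab ρ z).subgroupOf K := QuotientGroup.leftRel_apply.mp hab
          have hab' : ((a⁻¹ * b : K) : G) ∈ pstab ρ z := Subgroup.mem_subgroupOf.mp h0
          rw [mem_pstab, Subgroup.coe_mul, Subgroup.coe_inv, map_mul, map_inv, Equiv.Perm.mul_apply,
            Equiv.Perm.inv_def, Equiv.symm_apply_eq] at hab'
          exact Subtype.ext hab'.symm)
      have hg : Function.Bijective g := by
        constructor
        · intro a b
          induction a using QuotientGroup.induction_on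
          induction b using QuotientGroup.induction_on
          rename_i a b
          intro h
          refine QuotientGroup.eq.mpr (Subgroup.mem_subgroupOf.mpr ?_)
          rw [mem_pstab, Subgroup.coe_mul, Subgroup.coe_inv, map_mul, map_inv, Equiv.Perm.mul_apply,
            Equiv.Perm.inv_def, Equiv.symm_apply_eq]
          exact (congrArg Subtype.val h).symm
        · rintro ⟨_, k, hk, rfl⟩; exact ⟨QuotientGroup.mk ⟨k, hk⟩, rfl⟩
      rw [Subgroup.relIndex, Subgroup.index, Nat.card_eq_of_bijective g hg, Nat.card_coe_set_eq]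
    have : T.ncard ∣ (pstab ρ z).index := by
      rw [← hrel, ← Subgroup.relIndex_mul_index hK.le]
      exact Dvd.intro _ rfl
    exact this.trans (dvd_of_eq hidx)
  rcases hblock s (hT ▸ hdvd) with h | h
  · exfalso
    obtain ⟨k, hk, hkn⟩ := SetLike.exists_of_lt hK
    have hm : ρ k z ∈ T := ⟨k, hk, rfl⟩
    have hTz : T = {z} := by
      refine ((Set.subset_singleton_iff_eq).mp ?_).resolve_left (fun h => Set.notMem_empty _ (h ▸ hm))
      intro x hx
      rcases h1 hx with hx | hx
      · exact hx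
      · simp [h] at hx
    exact hkn (by simpa [hTz, mem_pstab] using hm)
  · rw [eq_top_iff]
    intro g _
    have hTu : ρ g z ∈ T := by
      by_contra hc
      have := h2 hc
      simp [h] at this
    obtain ⟨k, hk, hke⟩ := hTu
    have : k⁻¹ * g ∈ pstab ρ z := by
      rw [mem_pstab, map_mul, map_inv, Equiv.Perm.mul_apply, ← hke]; simp
    simpa using K.mul_mem hk (hK.le this)

/-- Simplicity from a primitive action. -/
theorem isSimpleGroup_of_action [Finite G] (hn : 1 < n) (hρ : Function.Injective ρ)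
    (htr : ∀ i : Fin n, ∃ g, ρ g ⟨0, by omega⟩ = i)
    (hmax : IsCoatom (pstab ρ ⟨0, by omega⟩)) {p a : Nat} [Fact p.Prime]
    (hdvd : p ^ a ∣ n) (hnd : ¬ p ^ (a + 1) ∣ Nat.card G)
    (u : G) (hu : u ^ p ^ a = 1) (hgen : ∀ N : Subgroup G, N.Normal → u ∈ N → N = ⊤) :
    IsSimpleGroup G := by
  set z : Fin n := ⟨0, by omega⟩ with hz
  have : Nontrivial G := by
    obtain ⟨g, hg⟩ := htr ⟨1, hn⟩
    refine ⟨⟨g, 1, fun h => ?_⟩⟩
    rw [h, map_one] at hg
    simp [hz, Fin.ext_iff] at hg
  refine ⟨fun N hN => ?_⟩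
  by_cases hle : N ≤ pstab ρ z
  · left
    rw [Subgroup.eq_bot_iff_forall]
    intro x hx
    refine (map_eq_one_iff ρ hρ).mp (Equiv.ext fun i => ?_)
    obtain ⟨g, rfl⟩ := htr i
    have := hle (hN.conj_mem x hx g⁻¹)
    rw [mem_pstab, inv_inv, map_mul, map_mul, map_inv, Equiv.Perm.mul_apply, Equiv.Perm.mul_apply,
      Equiv.Perm.inv_def, Equiv.symm_apply_eq] at this
    simpa using this
  · right
    haveI := hN
    have htop : pstab ρ z ⊔ N = ⊤ :=
      hmax.2 _ (lt_of_le_of_ne le_sup_left fun h => hle (h.symm ▸ le_sup_right))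
    have horb : orb ρ N z = Set.univ := by
      refine Set.eq_univ_of_forall fun i => ?_
      obtain ⟨g, rfl⟩ := htr i
      have hg : g ∈ pstab ρ z ⊔ N := htop ▸ Subgroup.mem_top g
      rw [sup_comm] at hg
      rw [← SetLike.mem_coe, Subgroup.normal_mul N (pstab ρ z)] at hg
      obtain ⟨x, hx, y, hy, rfl⟩ := hg
      exact ⟨x, hx, by rw [map_mul, Equiv.Perm.mul_apply, mem_pstab.mp hy]⟩
    have hnN : n ∣ Nat.card N := by
      have := card_orb_mul (ρ := ρ) N z
      rw [horb, Set.ncard_univ, Nat.card_fin] at this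
      exact ⟨_, this.symm⟩
    refine hgen N hN ?_
    obtain ⟨P⟩ : Nonempty (Sylow p N) := inferInstance
    have hPa : p ^ a ∣ Nat.card P := P.pow_dvd_card_of_pow_dvd_card (hdvd.trans hnN)
    obtain ⟨Q, hQ⟩ := (P.isPGroup'.map N.subtype).exists_le_sylow
    have hQc : Nat.card Q ∣ p ^ a := by
      obtain ⟨b, hb⟩ := (IsPGroup.iff_card.mp Q.isPGroup')
      rw [hb]
      refine pow_dvd_pow _ ?_
      by_contra hlt
      exact hnd ((pow_dvd_pow p (by omega : a + 1 ≤ b)).trans (hb ▸ Subgroup.card_subgroup_dvd_card _))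
    have hPQ : (P : Subgroup N).map N.subtype = Q := by
      refine Subgroup.eq_of_le_of_card_ge hQ ?_
      rw [Nat.card_congr ((P : Subgroup N).equivMapOfInjective _ N.subtype_injective).symm.toEquiv]
      exact Nat.le_of_dvd Nat.card_pos (hQc.trans hPa)
    have hup : IsPGroup p (Subgroup.zpowers u) := by
      obtain ⟨b, -, hb⟩ := (Nat.dvd_prime_pow (Fact.out : p.Prime)).mp (orderOf_dvd_of_pow_eq_one hu)
      exact IsPGroup.of_card (n := b) (by rw [Nat.card_zpowers, hb])
    obtain ⟨R, hR⟩ := hup.exists_le_sylow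
    obtain ⟨g, hg⟩ := MulAction.exists_smul_eq G Q R
    have hR' := hR (Subgroup.mem_zpowers u)
    rw [← hg] at hR'
    obtain ⟨q, hq, rfl⟩ := hR'
    have : q ∈ N := by
      have h1 : q ∈ (P : Subgroup N).map N.subtype := hPQ ▸ hq
      exact Subgroup.map_subtype_le _ h1
    simpa using hN.conj_mem q this g

/-- A collapse certificate: a normal subgroup containing `u` is everything. -/
theorem eq_top_of_collapse {L : List G} (hgen : Subgroup.closure {x | x ∈ L} = ⊤)
    {u : List Nat} (N : Subgroup G) [N.Normal] (hu : ev L u ∈ N)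
    (hcoll : ∀ (L' : List (G ⧸ N)), L'.length = L.length →
      (∀ w, ev L' w = QuotientGroup.mk' N (ev L w)) → ev L' u = 1 → ∀ x ∈ L', x = 1) : N = ⊤ := by
  have hL : ∀ w, ev (L.map (QuotientGroup.mk' N)) w = QuotientGroup.mk' N (ev L w) := by
    intro w
    induction w with
    | nil => simp
    | cons l w ih =>
      rw [ev_cons, ev_cons, map_mul, ih]
      congr 1
      rcases lt_or_ge l L.length with hl | hl
      · simp [fl, List.getElem?_eq_getElem hl]
      · rw [fl_of_le _ hl, fl_of_le _ (by simpa using hl), map_one]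
  have h := hcoll _ (by simp) hL (by rw [hL]; exact (QuotientGroup.eq_one_iff _).mpr hu)
  rw [eq_top_iff, ← hgen, Subgroup.closure_le]
  intro x hx
  exact (QuotientGroup.eq_one_iff x).mp (h _ (List.mem_map.mpr ⟨x, hx, rfl⟩))

end CfsgLib.Coset
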