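import Cfsg.Agent.Coset.Pres
import Cfsg.Agent.Coset.Simple

/-!
Chains of coset tables (upper bounds for orders), chains of orbits (lower bounds), and the
glue used by the presentations of sporadic groups.
-/

set_option autoImplicit false

namespace CfsgLib.Coset

/-- The sub-list of generators with the listed numbers. -/
def lv {G : Type*} [Group G] (L : List G) (S : List Nat) : List G := S.map (fl L)

/-- The generators listed in `S'` are among those of `S`, and `subs` only uses them. -/
def checkLevel (rels : List (List Nat)) (k : Nat) (S S' : List Nat)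
    (relsS subs : List (List Nat)) : Bool :=
  (relsS.all fun w => rels.contains (w.map fun l => S.getD l k)) &&
  (subs.all fun w => w.all fun l => S'.contains (S.getD l k)) &&
  (S'.all fun l => S.contains l) && (S.all fun l => decide (l < k))

variable {G : Type*} [Group G] {L : List G}

theorem fl_lv (S : List Nat) (l : Nat) : fl (lv L S) l = fl L (S.getD l L.length) := by
  rcases lt_or_ge l S.length with hl | hl
  · simp [fl, lv, List.getD_eq_getElem?_getD, List.getElem?_eq_getElem hl]
  · rw [fl_of_le _ (by simpa [lv] using hl), List.getD_eq_default _ _ hl, fl_of_le _ le_rfl]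

theorem ev_lv (S : List Nat) (w : List Nat) :
    ev (lv L S) w = ev L (w.map fun l => S.getD l L.length) := by
  induction w with
  | nil => simp
  | cons l w ih => simp [ih, fl_lv]

theorem lv_range : lv L (List.range L.length) = L := by
  apply List.ext_getElem
  · simp [lv]
  · intro i h1 h2
    simp [lv, fl, List.getD_eq_getElem?_getD, h2]

/-- The subgroup generated by the listed generators. -/
def genBy (L : List G) (S : List Nat) : Subgroup G := Subgroup.closure {x | x ∈ lv L S}

theorem genBy_mono {S S' : List Nat} (h : ∀ l ∈ S', l ∈ S) : genBy L S' ≤ genBy L S := by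
  refine Subgroup.closure_mono ?_
  rintro x hx
  obtain ⟨l, hl, rfl⟩ := List.mem_map.mp hx
  exact List.mem_map.mpr ⟨l, h l hl, rfl⟩

theorem genBy_range (hgen : Subgroup.closure {x | x ∈ L} = ⊤) :
    genBy L (List.range L.length) = ⊤ := by
  rw [genBy, lv_range, hgen]

theorem card_genBy_nil : Finite (genBy L []) ∧ Nat.card (genBy L []) ≤ 1 := by
  have : genBy L [] = ⊥ := by simp [genBy, lv]
  rw [this]
  exact ⟨inferInstance, by simp⟩

theorem ev_mem_genBy (S : List Nat) {w : List Nat} (hw : ∀ l ∈ w, l ∈ S) :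
    ev L w ∈ genBy L S := by
  induction w with
  | nil => simp
  | cons l w ih =>
    rw [ev_cons]
    refine mul_mem (Subgroup.subset_closure ?_) (ih fun x hx => hw x (by simp [hx]))
    exact List.mem_map.mpr ⟨l, hw l (by simp), rfl⟩

variable {k : Nat} {rels : List (List Nat)} {S S' : List Nat} {relsS subs : List (List Nat)}

theorem level_rels (hk : L.length = k) (hc : checkLevel rels k S S' relsS subs = true)
    (hrel : ∀ w ∈ rels, ev L w = 1) : ∀ w ∈ relsS, ev (lv L S) w = 1 := by
  simp only [checkLevel, Bool.and_eq_true, List.all_eq_true, List.contains_iff_mem] at hc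
  intro w hw
  rw [ev_lv, hk]
  exact hrel _ (hc.1.1.1 w hw)

theorem level_subs (hk : L.length = k) (hc : checkLevel rels k S S' relsS subs = true) :
    ∀ w ∈ subs, ev (lv L S) w ∈ genBy L S' := by
  simp only [checkLevel, Bool.and_eq_true, List.all_eq_true, List.contains_iff_mem] at hc
  intro w hw
  rw [ev_lv, hk]
  refine ev_mem_genBy S' fun l hl => ?_
  obtain ⟨i, hi, rfl⟩ := List.mem_map.mp hl
  exact hc.1.1.2 w hw i hi

theorem inv_lv (h2 : ∀ x, fl L x * fl L x = 1) (S : List Nat) (x : Nat) :
    fl (lv L S) (id x) = (fl (lv L S) x)⁻¹ := by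
  rw [id, fl_lv, inv_eq_of_mul_eq_one_right (h2 _)]

variable {E : Nat → Nat} {n : Nat} {Rep Tb : Nat → Nat}

theorem level_card {m : Nat} (h : TableOK (lv L S) (genBy L S') E id n Rep Tb) (hn : 0 < n)
    (hc : checkLevel rels k S S' relsS subs = true)
    (hm : Finite (genBy L S') ∧ Nat.card (genBy L S') ≤ m) :
    Finite (genBy L S) ∧ Nat.card (genBy L S) ≤ n * m := by
  simp only [checkLevel, Bool.and_eq_true, List.all_eq_true, List.contains_iff_mem] at hc
  exact h.finite_card_le hn (genBy_mono fun l hl => hc.1.2 l hl) hm.1 hm.2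

section Lower

variable {ρ : G →* Equiv.Perm (Fin n)}

theorem orbit_step (hm : Matches L ρ Tb) {base : List (Fin n)} {β : Fin n} {m dm : Nat}
    {gens : List (List Nat)} {P Inv : Nat → Nat} (hc : checkOrbit Tb β m dm gens P Inv = true)
    (hl : checkLetters L.length gens = true) (hf : checkFix Tb (base.map Fin.val) gens = true)
    {M : Nat} (hM : M ≤ Nat.card (baseStab ρ (base ++ [β]))) :
    m * M ≤ Nat.card (baseStab ρ base) := by
  rw [baseStab_snoc] at hM
  exact hm.card_step hc hl (hm.ev_mem_baseStab hl hf) hM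

theorem orbit_step_in (hm : Matches L ρ Tb) (T : Subgroup G) {base : List (Fin n)} {β : Fin n}
    {m dm : Nat} {gens : List (List Nat)} {P Inv : Nat → Nat}
    (hc : checkOrbit Tb β m dm gens P Inv = true) (hl : checkLetters L.length gens = true)
    (hf : checkFix Tb (base.map Fin.val) gens = true) (hT : ∀ w ∈ gens, ev L w ∈ T)
    {M : Nat} (hM : M ≤ Nat.card (T ⊓ baseStab ρ (base ++ [β]) : Subgroup G)) :
    m * M ≤ Nat.card (T ⊓ baseStab ρ base : Subgroup G) := by
  rw [baseStab_snoc, ← inf_assoc] at hM
  exact hm.card_step hc hl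
    (fun w hw => Subgroup.mem_inf.mpr ⟨hT w hw, hm.ev_mem_baseStab hl hf w hw⟩) hM

theorem card_ker_le (base : List (Fin n)) [Finite G] :
    Nat.card ρ.ker ≤ Nat.card (baseStab ρ base) := by
  refine Nat.le_of_dvd Nat.card_pos (Subgroup.card_dvd_of_le fun g hg => ?_)
  refine (mem_foldl_inf base ⊤).mpr ⟨trivial, fun b _ => ?_⟩
  rw [mem_pstab, MonoidHom.mem_ker.mp hg]; rfl

/-- Order and faithfulness from matching bounds. -/
theorem card_eq_and_injective [Finite G] {N : Nat} (hN : 0 < N) (hub : Nat.card G ≤ N)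
    (hlb : N * Nat.card ρ.ker ≤ Nat.card (baseStab ρ ([] : List (Fin n)))) :
    Nat.card G = N ∧ Function.Injective ρ := by
  have he : Nat.card (baseStab ρ ([] : List (Fin n))) = Nat.card G := by
    simp [baseStab]
  rw [he] at hlb
  have h1 : 0 < Nat.card ρ.ker := Nat.card_pos
  have h2 : Nat.card ρ.ker = 1 := by
    by_contra hne
    have : N * 2 ≤ N * Nat.card ρ.ker := Nat.mul_le_mul_left N (by omega)
    omega
  refine ⟨?_, (MonoidHom.ker_eq_bot_iff ρ).mp (Subgroup.eq_bot_of_card_eq _ h2)⟩
  rw [h2, mul_one] at hlb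
  omega

end Lower

section Cosets

variable {ρ : G →* Equiv.Perm (Fin n)}

/-- Orbits on cosets of a point stabiliser are orbits on points. -/
theorem ncard_orbit_coset {z : Fin n} {H : Subgroup G} (hH : H = pstab ρ z) (S : Subgroup G)
    (g : G) : (MulAction.orbit S (QuotientGroup.mk g : G ⧸ H)).ncard = (orb ρ S (ρ g z)).ncard := by
  subst hH
  let f : G ⧸ pstab ρ z → Fin n := Quotient.lift (fun g => ρ g z) (fun a b hab => by
    have hab' : a⁻¹ * b ∈ pstab ρ z := QuotientGroup.leftRel_apply.mp hab
    rw [mem_pstab, map_mul, map_inv, Equiv.Perm.mul_apply, Equiv.Perm.inv_def,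
      Equiv.symm_apply_eq] at hab'
    exact hab'.symm)
  have hf : Function.Injective f := by
    intro a b
    induction a using QuotientGroup.induction_on
    induction b using QuotientGroup.induction_on
    rename_i a b
    intro h
    refine QuotientGroup.eq.mpr ?_
    rw [mem_pstab, map_mul, map_inv, Equiv.Perm.mul_apply, Equiv.Perm.inv_def, Equiv.symm_apply_eq]
    exact h.symm
  have himg : f '' MulAction.orbit S (QuotientGroup.mk g : G ⧸ pstab ρ z) = orb ρ S (ρ g z) := by
    ext i
    constructor
    · rintro ⟨_, ⟨s, rfl⟩, rfl⟩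
      exact ⟨s, s.2, by rw [← Equiv.Perm.mul_apply, ← map_mul]; rfl⟩
    · rintro ⟨s, hs, rfl⟩
      exact ⟨_, ⟨⟨s, hs⟩, rfl⟩, by rw [← Equiv.Perm.mul_apply, ← map_mul]; rfl⟩
  rw [← himg, Set.ncard_image_of_injective _ hf]

/-- A coset whose orbit has the size certified for the point. -/
theorem exists_orbit_coset {z β : Fin n} {H : Subgroup G} (hH : H = pstab ρ z) (S : Subgroup G)
    (htr : ∀ i : Fin n, ∃ g, ρ g z = i) {m : Nat} (hm : (orb ρ S β).ncard = m) :
    ∃ q : G ⧸ H, (MulAction.orbit S q).ncard = m := by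
  obtain ⟨g, hg⟩ := htr β
  exact ⟨QuotientGroup.mk g, by rw [ncard_orbit_coset hH S g, hg, hm]⟩

end Cosets

/-- A table with one coset over the trivial subgroup kills all generators. -/
theorem all_one_of_table (h : TableOK L (⊥ : Subgroup G) E id 1 Rep Tb) : ∀ x ∈ L, x = 1 := by
  obtain ⟨h1, h2⟩ := h.relIndex_le Nat.one_pos
  rw [Subgroup.relIndex_bot_left] at h1 h2
  intro x hx
  have : Subgroup.closure {x | x ∈ L} = ⊥ := Subgroup.eq_bot_of_card_eq _ (by omega)
  exact Subgroup.closure_eq_bot_iff.mp this hx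

theorem PresData.sq_all {α : Type} [DecidableEq α] {D : PresData α} (hD : D.OK)
    (hix : ∀ l < D.nodes.length, ∃ x, D.ix x = l) (l : Nat) :
    fl D.gens l * fl D.gens l = 1 := by
  rcases lt_or_ge l D.nodes.length with hl | hl
  · obtain ⟨x, rfl⟩ := hix l hl
    rw [D.fl_gens hD]; exact D.gens_sq hD x
  · rw [fl_of_le _ (by simpa [PresData.gens] using hl), mul_one]

theorem pow_ev (w : List Nat) : ∀ m : Nat, (ev L w) ^ m = ev L (List.replicate m w).flatten := by
  intro m
  induction m with
  | zero => simp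
  | succ m ih => rw [pow_succ', ih, List.replicate_succ, List.flatten_cons, ev_append]


/-- The subgroup generated by the values of words. -/
def genW (L : List G) (ws : List (List Nat)) : Subgroup G :=
  Subgroup.closure (ev L '' {w | w ∈ ws})

theorem genW_singletons (S : List Nat) : genW L (S.map fun l => [l]) = genBy L S := by
  rw [genW, genBy]
  congr 1
  ext x
  simp [lv]

theorem ev_mem_genW {ws : List (List Nat)} {w : List Nat} (hw : w ∈ ws) :
    ev L w ∈ genW L ws := Subgroup.subset_closure ⟨w, hw, rfl⟩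

theorem genW_le_pstab {ρ : G →* Equiv.Perm (Fin n)} (hm : Matches L ρ Tb) {ws : List (List Nat)}
    (z : Fin n) (hl : checkLetters L.length ws = true) (hf : checkFix Tb [(z : Nat)] ws = true) :
    genW L ws ≤ pstab ρ z := by
  refine (Subgroup.closure_le _).mpr ?_
  rintro _ ⟨w, hw, rfl⟩
  refine (hm.mem_pstab_iff z (letters_lt hl w hw)).mpr ?_
  exact Nat.eq_of_beq_eq_true (allList_iff.mp (allList_iff.mp hf w hw) _ (by simp))

/-- One orbit certificate. -/
structure OrbitCert where
  /-- the base point -/
  pt : Nat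
  /-- the size -/
  size : Nat
  /-- the points -/
  P : Nat → Nat
  /-- positions -/
  Inv : Nat → Nat

/-- All orbit certificates check. -/
noncomputable def checkOrbits (Tb : Nat → Nat) (dn : Nat) (ws : List (List Nat))
    (cs : List OrbitCert) : Bool :=
  allList (fun c => cond (Nat.ble 1 c.size)
    (cond (checkOrbit Tb c.pt c.size dn ws c.P c.Inv) (checkClosed Tb c.size dn ws c.P c.Inv) false)
    false) cs

/-- Every point other than `0` is listed in some certificate. -/
noncomputable def checkCover (n dn : Nat) (cs : List OrbitCert) : Bool :=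
  allBelow dn n fun i => cond (Nat.beq i 0) true
    (List.rec false (fun c _ ih =>
      cond (cond (Nat.ble (Nat.add (field (c.Inv i) 0) 1) c.size)
        (Nat.beq (opt c.P (field (c.Inv i) 0)) i) false) true ih) cs)

variable {ρ : G →* Equiv.Perm (Fin n)}

theorem orbits_ncard (hm : Matches L ρ Tb) {dn : Nat} {ws : List (List Nat)} {cs : List OrbitCert}
    (hc : checkOrbits Tb dn ws cs = true) (hl : checkLetters L.length ws = true)
    {c : OrbitCert} (hmem : c ∈ cs) (β : Fin n) (hβ : (β : Nat) = c.pt) :
    (orb ρ (genW L ws) β).ncard = c.size := by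
  have h := allList_iff.mp hc c hmem
  simp only [cond_false_eq_true] at h
  rw [← hβ] at h
  exact hm.orbit_eq h.2.1 h.2.2 hl (Nat.ble_eq.mp h.1)

theorem orbits_cover (hm : Matches L ρ Tb) {dn : Nat} {ws : List (List Nat)} {cs : List OrbitCert}
    (hc : checkOrbits Tb dn ws cs = true) (hl : checkLetters L.length ws = true)
    (hcov : checkCover n dn cs = true) (i : Fin n) (hi : (i : Nat) ≠ 0) :
    ∃ c ∈ cs, ∀ β : Fin n, (β : Nat) = c.pt → i ∈ orb ρ (genW L ws) β := by
  have key : ∀ (cs' : List OrbitCert),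
      List.rec (motive := fun _ => Bool) false (fun c _ ih =>
        cond (cond (Nat.ble (Nat.add (field (c.Inv i) 0) 1) c.size)
          (Nat.beq (opt c.P (field (c.Inv i) 0)) i) false) true ih) cs' = true →
      ∃ c ∈ cs', field (c.Inv i) 0 < c.size ∧ opt c.P (field (c.Inv i) 0) = i := by
    intro cs'
    induction cs' with
    | nil => intro h; simp at h
    | cons c t ih =>
      intro h
      cases hb : (cond (Nat.ble (Nat.add (field (c.Inv i) 0) 1) c.size)
          (Nat.beq (opt c.P (field (c.Inv i) 0)) i) false)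
      · simp only [hb, cond_false] at h
        obtain ⟨c', hc', h'⟩ := ih h
        exact ⟨c', by simp [hc'], h'⟩
      · rw [cond_false_eq_true] at hb
        exact ⟨c, by simp, Nat.ble_eq.mp hb.1, Nat.eq_of_beq_eq_true hb.2⟩
  have h := of_allBelow hcov i i.2
  have hb : Nat.beq i 0 = false := by
    cases hh : Nat.beq i 0
    · rfl
    · exact absurd (Nat.eq_of_beq_eq_true hh) hi
  rw [hb, cond_false] at h
  obtain ⟨c, hmem, hlt, he⟩ := key cs h
  refine ⟨c, hmem, fun β hβ => ?_⟩
  have hh := allList_iff.mp hc c hmem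
  simp only [cond_false_eq_true] at hh
  rw [← hβ] at hh
  obtain ⟨x, hx, hxe⟩ := (hm.orbit_le hh.2.1 hl (S := genW L ws)
    fun w hw => ev_mem_genW hw).2 _ hlt
  rwa [show i = x from Fin.ext (by omega)]

/-- Maximality of a point stabiliser from certified orbits. -/
theorem pstab_isCoatom_of_orbits (hm : Matches L ρ Tb) (hn : 1 < n) {dn : Nat}
    {ws : List (List Nat)} {cs : List OrbitCert} (hc : checkOrbits Tb dn ws cs = true)
    (hl : checkLetters L.length ws = true) (hcov : checkCover n dn cs = true)
    (htr : ∀ i : Fin n, ∃ g, ρ g ⟨0, by omega⟩ = i) (hpt : ∀ c ∈ cs, c.pt < n)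
    (hle : genW L ws ≤ pstab ρ ⟨0, by omega⟩)
    (hsum : 1 + ∑ j : Fin cs.length, (cs[j.val]).size = n)
    (hblock : ∀ s : Finset (Fin cs.length), (1 + ∑ j ∈ s, (cs[j.val]).size) ∣ n →
      s = ∅ ∨ s = Finset.univ) :
    IsCoatom (pstab ρ ⟨0, by omega⟩) := by
  have hA : ∀ j : Fin cs.length, (orb ρ (genW L ws) ⟨_, hpt _ (List.getElem_mem j.2)⟩).ncard =
      (cs[j.val]).size := fun j => orbits_ncard hm hc hl (List.getElem_mem j.2) _ rfl
  refine pstab_isCoatom hn htr
    (fun j : Fin cs.length => orb ρ (genW L ws) ⟨_, hpt _ (List.getElem_mem j.2)⟩) ?_ ?_ ?_ ?_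
  · rintro j x ⟨g, hg, rfl⟩ y ⟨h, hh, rfl⟩
    refine ⟨h * g⁻¹, hle (mul_mem hh (inv_mem hg)), ?_⟩
    simp
  · intro i hi
    obtain ⟨c, hmem, hc'⟩ := orbits_cover hm hc hl hcov i hi
    obtain ⟨j, hj, rfl⟩ := List.getElem_of_mem hmem
    exact ⟨⟨j, hj⟩, hc' _ rfl⟩
  · simpa only [hA] using hsum
  · intro s hs
    simp only [hA] at hs
    exact hblock s hs

end CfsgLib.Coset

namespace CfsgLib.Coset

/-- A subgroup given by free-group words is generated by the values of the numeric words. -/
theorem PresData.map_mk_closure {α : Type} [DecidableEq α] {D : PresData α} (hD : D.OK)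
    (R : List (FreeGroup α)) :
    (Subgroup.closure {r | r ∈ R}).map
        (PresentedGroup.mk (Cfsg.Spor.coxRelators D.edges ∪ {r | r ∈ D.extra})) =
      genW D.gens (R.map fun r => (flat r).map D.ix) := by
  have h : ∀ r : FreeGroup α,
      PresentedGroup.mk (Cfsg.Spor.coxRelators D.edges ∪ {r | r ∈ D.extra}) r =
        ev D.gens ((flat r).map D.ix) := by
    intro r
    rw [← lift_eq_ev_flat (L := D.gens) (fun x => by rw [D.fl_gens hD]; exact D.gens_sq hD x)]
    congr 1
    refine FreeGroup.ext_hom _ _ fun x => ?_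
    simp [D.fl_gens hD, PresentedGroup.of]
  rw [MonoidHom.map_closure, genW]
  congr 1
  ext x
  simp [h]

end CfsgLib.Coset

namespace CfsgLib.Coset

variable {G : Type*} [Group G] {n : Nat} {ρ : G →* Equiv.Perm (Fin n)}

theorem card_inf_ker_le (T : Subgroup G) [Finite T] (base : List (Fin n)) :
    Nat.card (T ⊓ ρ.ker : Subgroup G) ≤ Nat.card (T ⊓ baseStab ρ base : Subgroup G) := by
  have : Finite (T ⊓ baseStab ρ base : Subgroup G) :=
    Finite.of_injective _ (Subgroup.inclusion_injective inf_le_left)
  refine Nat.le_of_dvd Nat.card_pos (Subgroup.card_dvd_of_le (inf_le_inf_left T fun g hg => ?_))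
  refine (mem_foldl_inf base ⊤).mpr ⟨trivial, fun b _ => ?_⟩
  rw [mem_pstab, MonoidHom.mem_ker.mp hg]; rfl

/-- Matching bounds make the action faithful on a subgroup. -/
theorem eq_of_map_eq {T : Subgroup G} [Finite T] {N : Nat} (hub : Nat.card T ≤ N)
    (hlb : N * Nat.card (T ⊓ ρ.ker : Subgroup G) ≤
      Nat.card (T ⊓ baseStab ρ ([] : List (Fin n)) : Subgroup G))
    {g h : G} (hg : g ∈ T) (hh : h ∈ T) (he : ρ g = ρ h) : g = h := by
  have e : T ⊓ baseStab ρ ([] : List (Fin n)) = T := by simp [baseStab]
  rw [e] at hlb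
  have h1 : 0 < Nat.card T := Nat.card_pos
  have : Finite (T ⊓ ρ.ker : Subgroup G) :=
    Finite.of_injective _ (Subgroup.inclusion_injective inf_le_left)
  have h3 : 0 < Nat.card (T ⊓ ρ.ker : Subgroup G) := Nat.card_pos
  have h2 : Nat.card (T ⊓ ρ.ker : Subgroup G) = 1 := by
    by_contra hne
    have : N * 2 ≤ N * Nat.card (T ⊓ ρ.ker : Subgroup G) := Nat.mul_le_mul_left N (by omega)
    omega
  have hm : g * h⁻¹ ∈ T ⊓ ρ.ker := Subgroup.mem_inf.mpr
    ⟨mul_mem hg (inv_mem hh), by rw [MonoidHom.mem_ker, map_mul, map_inv, he, mul_inv_cancel]⟩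
  rw [Subgroup.eq_bot_of_card_eq _ h2, Subgroup.mem_bot] at hm
  exact mul_inv_eq_one.mp hm

/-- Adjoining a normalising involution at most doubles a subgroup. -/
theorem card_closure_insert_le {s : Set G} {x : G} {m : Nat}
    (hf : Finite (Subgroup.closure s)) (hm : Nat.card (Subgroup.closure s) ≤ m) (hx : x * x = 1)
    (hconj : ∀ y ∈ s, x * y * x ∈ Subgroup.closure s) :
    Finite (Subgroup.closure (insert x s)) ∧ Nat.card (Subgroup.closure (insert x s)) ≤ 2 * m := by
  set T := Subgroup.closure s
  have hinv : x⁻¹ = x := inv_eq_of_mul_eq_one_right hx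
  have hc : ∀ t ∈ T, x * t * x ∈ T := by
    intro t ht
    induction ht using Subgroup.closure_induction with
    | mem y hy => exact hconj y hy
    | one => simp [hx]
    | mul a b _ _ ha hb =>
      have : x * (a * b) * x = x * a * x * (x * b * x) := by
        rw [show x * a * x * (x * b * x) = x * a * (x * x) * b * x by group, hx]; group
      rw [this]; exact mul_mem ha hb
    | inv a _ ha =>
      have : x * a⁻¹ * x = (x * a * x)⁻¹ := by simp [mul_inv_rev, hinv, mul_assoc]
      rw [this]; exact inv_mem ha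
  have hsub : ∀ g ∈ Subgroup.closure (insert x s), g ∈ T ∨ g * x ∈ T := by
    intro g hg
    induction hg using Subgroup.closure_induction with
    | mem y hy =>
      rcases hy with rfl | hy
      · right; rw [hx]; exact T.one_mem
      · left; exact Subgroup.subset_closure hy
    | one => left; exact T.one_mem
    | mul a b _ _ ha hb =>
      rcases ha with ha | ha <;> rcases hb with hb | hb
      · left; exact mul_mem ha hb
      · right; rw [mul_assoc]; exact mul_mem ha hb
      · right
        rw [show a * b * x = a * x * (x⁻¹ * b * x) by group, hinv]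
        exact mul_mem ha (hc b hb)
      · left
        rw [show a * b = a * x * (x⁻¹ * (b * x) * x⁻¹) by group, hinv]
        exact mul_mem ha (hc _ hb)
    | inv a _ ha =>
      rcases ha with ha | ha
      · left; exact inv_mem ha
      · right
        rw [show a⁻¹ * x = x * (a * x)⁻¹ * x by group]
        exact hc _ (inv_mem ha)
  let A : Set G := (T : Set G) ∪ (· * x) '' (T : Set G)
  have hA : (Subgroup.closure (insert x s) : Set G) ⊆ A := by
    intro g hg
    rcases hsub g hg with h | h
    · exact Or.inl h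
    · exact Or.inr ⟨g * x, h, by simp [mul_assoc, hx]⟩
  have hTf : (T : Set G).Finite := Set.toFinite _
  have hAf : A.Finite := hTf.union (hTf.image _)
  refine ⟨(hAf.subset hA).to_subtype, ?_⟩
  calc Nat.card (Subgroup.closure (insert x s))
      = (Subgroup.closure (insert x s) : Set G).ncard := (Nat.card_coe_set_eq _)
    _ ≤ A.ncard := Set.ncard_le_ncard hA hAf
    _ ≤ (T : Set G).ncard + ((· * x) '' (T : Set G)).ncard := Set.ncard_union_le _ _
    _ ≤ (T : Set G).ncard + (T : Set G).ncard := Nat.add_le_add_left (Set.ncard_image_le hTf) _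
    _ ≤ 2 * m := by
      rw [show (T : Set G).ncard = Nat.card T from (Nat.card_coe_set_eq _).symm]
      omega

end CfsgLib.Coset

namespace CfsgLib.Coset

variable {G : Type*} [Group G] {n : Nat} {ρ : G →* Equiv.Perm (Fin n)}

/-- A matching lower bound leaves a trivial base stabiliser. -/
theorem baseStab_eq_bot [Finite G] {N : Nat} (hN : 0 < N) (hub : Nat.card G ≤ N)
    (base : List (Fin n)) (hlb : N * Nat.card (baseStab ρ base) ≤ Nat.card G) :
    baseStab ρ base = ⊥ := by
  refine Subgroup.eq_bot_of_card_eq _ ?_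
  have : 0 < Nat.card (baseStab ρ base) := Nat.card_pos
  by_contra hne
  have : N * 2 ≤ N * Nat.card (baseStab ρ base) := Nat.mul_le_mul_left N (by omega)
  omega

/-- Two words agreeing on a base are equal. -/
theorem Matches.ev_eq_of_base {L : List G} {Tb : Nat → Nat} (hm : Matches L ρ Tb)
    {base : List (Fin n)} (hb : baseStab ρ base = ⊥) {v w : List Nat}
    (hv : checkLetters L.length [v] = true) (hw : checkLetters L.length [w] = true)
    (h : allList (fun b => Nat.beq (follow (tget Tb) b v) (follow (tget Tb) b w))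
      (base.map Fin.val) = true) : ev L v = ev L w := by
  have key : ev L v * (ev L w)⁻¹ ∈ baseStab ρ base := by
    refine (mem_foldl_inf base ⊤).mpr ⟨trivial, fun b hbmem => ?_⟩
    have he := Nat.eq_of_beq_eq_true (allList_iff.mp h _ (List.mem_map.mpr ⟨b, hbmem, rfl⟩))
    rw [← hm.follow_eq v b (letters_lt hv v (by simp)),
      ← hm.follow_eq w b (letters_lt hw w (by simp))] at he
    rw [mem_pstab, map_mul, map_inv, Equiv.Perm.mul_apply, ← Fin.ext he, ← Equiv.Perm.mul_apply,
      mul_inv_cancel]
    rfl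
  rw [hb, Subgroup.mem_bot] at key
  exact mul_inv_eq_one.mp key

end CfsgLib.Coset
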