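import Cfsg.Agent.Coset.Chain
import Mathlib.GroupTheory.PresentedGroup

/-!
Groups presented on involutory generators by lists of numeric words, and their identification with
subgroups of known order.
-/

set_option autoImplicit false

namespace CfsgLib.Coset

/-- A word in numbers as an element of the free group. -/
def toFree (k : Nat) (w : List Nat) : FreeGroup (Fin k) :=
  (w.map fun l => if h : l < k then FreeGroup.of ⟨l, h⟩ else 1).prod

/-- The group presented by `k` generators and numeric relators. -/
abbrev NumGr (k : Nat) (rels : List (List Nat)) : Type :=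
  PresentedGroup {r : FreeGroup (Fin k) | ∃ w ∈ rels, toFree k w = r}

/-- Its generators. -/
def numGens (k : Nat) (rels : List (List Nat)) : List (NumGr k rels) :=
  (List.finRange k).map PresentedGroup.of

variable {k : Nat} {rels : List (List Nat)}

theorem length_numGens : (numGens k rels).length = k := by simp [numGens]

theorem fl_numGens (i : Fin k) : fl (numGens k rels) i = PresentedGroup.of i := by
  simp [fl, numGens, List.getD_eq_getElem?_getD, i.2]

theorem closure_numGens : Subgroup.closure {x | x ∈ numGens k rels} = ⊤ := by
  rw [eq_top_iff, ← PresentedGroup.closure_range_of]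
  refine Subgroup.closure_mono ?_
  rintro _ ⟨x, rfl⟩
  exact List.mem_map.mpr ⟨x, List.mem_finRange x, rfl⟩

theorem lift_toFree {X : Type*} [Group X] {L : List X} (hL : L.length = k) (w : List Nat) :
    FreeGroup.lift (fun i : Fin k => fl L i) (toFree k w) = ev L w := by
  induction w with
  | nil => simp [toFree]
  | cons l w ih =>
    rw [toFree, List.map_cons, List.prod_cons, map_mul, ev_cons, ← ih]
    congr 1
    by_cases h : l < k
    · simp [h]
    · simp [h, fl_of_le L (show L.length ≤ l by omega)]

theorem ev_numGens : ∀ w ∈ rels, ev (numGens k rels) w = 1 := by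
  intro w hw
  have h : PresentedGroup.mk {r : FreeGroup (Fin k) | ∃ w ∈ rels, toFree k w = r} (toFree k w) = 1 :=
    PresentedGroup.one_of_mem ⟨w, hw, rfl⟩
  rw [← lift_toFree length_numGens w, ← h]
  congr 1
  exact FreeGroup.ext_hom _ _ fun i => by
    rw [FreeGroup.lift_apply_of, fl_numGens]; rfl

theorem sq_numGens (hsq : ((List.range k).all fun l => rels.contains [l, l]) = true) (x : Nat) :
    fl (numGens k rels) x * fl (numGens k rels) x = 1 := by
  rcases lt_or_ge x k with hx | hx
  · have := ev_numGens (k := k) _ (List.contains_iff_mem.mp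
      (List.all_eq_true.mp hsq x (List.mem_range.mpr hx)))
    simpa using this
  · rw [fl_of_le _ (by rw [length_numGens]; exact hx), mul_one]

/-- The map to a group satisfying the relators. -/
def numHom {X : Type*} [Group X] {L : List X} (hL : L.length = k) (h : ∀ w ∈ rels, ev L w = 1) :
    NumGr k rels →* X :=
  PresentedGroup.toGroup (f := fun i : Fin k => fl L i) (by
    rintro r ⟨w, hw, rfl⟩; rw [lift_toFree hL]; exact h w hw)

theorem numHom_fl {X : Type*} [Group X] {L : List X} (hL : L.length = k)
    (h : ∀ w ∈ rels, ev L w = 1) (l : Nat) :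
    numHom hL h (fl (numGens k rels) l) = fl L l := by
  rcases lt_or_ge l k with hl | hl
  · rw [fl_numGens ⟨l, hl⟩]; exact PresentedGroup.toGroup.of _
  · rw [fl_of_le _ (by rw [length_numGens]; exact hl), fl_of_le _ (by omega), map_one]

theorem numHom_ev {X : Type*} [Group X] {L : List X} (hL : L.length = k)
    (h : ∀ w ∈ rels, ev L w = 1) (w : List Nat) :
    numHom hL h (ev (numGens k rels) w) = ev L w := by
  induction w with
  | nil => simp
  | cons l w ih => simp [numHom_fl, ih]

theorem range_numHom {X : Type*} [Group X] {L : List X} (hL : L.length = k)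
    (h : ∀ w ∈ rels, ev L w = 1) :
    (numHom (rels := rels) hL h).range = Subgroup.closure {x | x ∈ L} := by
  rw [MonoidHom.range_eq_map, ← closure_numGens, MonoidHom.map_closure]
  congr 1
  ext x
  constructor
  · rintro ⟨y, hy, rfl⟩
    obtain ⟨i, -, rfl⟩ := List.mem_map.mp hy
    rw [← fl_numGens i, numHom_fl]
    show fl L i ∈ L
    rw [fl, List.getD_eq_getElem _ _ (by omega)]
    exact List.getElem_mem _
  · intro hx
    obtain ⟨l, hl, rfl⟩ := List.getElem_of_mem hx
    refine ⟨fl (numGens k rels) l, ?_, ?_⟩
    · rw [fl_numGens ⟨l, by omega⟩]; exact List.mem_map.mpr ⟨_, List.mem_finRange _, rfl⟩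
    · rw [numHom_fl, fl, List.getD_eq_getElem _ _ hl]

/-- A subgroup of the same order generated by elements satisfying the relators is the presented
group. -/
noncomputable def numEquiv {X : Type*} [Group X] {L : List X} (hL : L.length = k)
    (h : ∀ w ∈ rels, ev L w = 1) [Finite (NumGr k rels)] [Finite X]
    (hcard : Nat.card (NumGr k rels) ≤ Nat.card (Subgroup.closure {x | x ∈ L})) :
    NumGr k rels ≃* (Subgroup.closure {x | x ∈ L} : Subgroup X) :=
  (MulEquiv.ofBijective (numHom (rels := rels) hL h).rangeRestrict
    ((numHom (rels := rels) hL h).rangeRestrict_surjective.bijective_of_nat_card_le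
      (by rwa [range_numHom]))).trans (MulEquiv.subgroupCongr (range_numHom hL h))

end CfsgLib.Coset
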