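import Cfsg.Agent.Coset.Table
import Mathlib.Tactic.Ring

/-!
Splitting the large checks into blocks, so that each kernel evaluation stays small.
-/

set_option autoImplicit false

namespace CfsgLib.Coset

/-- `allBelow`, restricted to one block of length `2 ^ d`. -/
noncomputable def belowBlock (d n : Nat) (p : Nat → Bool) (b : Nat) : Bool :=
  allBlock d b (fun i => cond (Nat.ble n i) true (p i))

theorem allBlock_of_blocks (d : Nat) (q : Nat → Bool) : ∀ (j s : Nat),
    (∀ b, s * 2 ^ j ≤ b → b < (s + 1) * 2 ^ j → allBlock d b q = true) →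
      allBlock (d + j) s q = true := by
  intro j
  induction j with
  | zero => intro s h; exact h s (by simp) (by simp)
  | succ j ih =>
    intro s h
    change cond (allBlock (d + j) (2 * s) q) (allBlock (d + j) (2 * s + 1) q) false = true
    have e1 : s * 2 ^ (j + 1) = 2 * s * 2 ^ j := by rw [pow_succ]; ring
    have e2 : (s + 1) * 2 ^ (j + 1) = (2 * s + 2) * 2 ^ j := by rw [pow_succ]; ring
    have h1 := ih (2 * s) (fun b hb1 hb2 => h b (e1 ▸ hb1)
      (lt_of_lt_of_le hb2 (e2 ▸ Nat.mul_le_mul_right _ (by omega))))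
    have h2 := ih (2 * s + 1) (fun b hb1 hb2 => h b
      (le_trans (e1 ▸ Nat.mul_le_mul_right _ (by omega)) hb1) (e2 ▸ hb2))
    rw [cond_false_eq_true]
    exact ⟨h1, h2⟩

theorem allBelow_of_blocks {d j n : Nat} {p : Nat → Bool} (hn : Nat.ble n (2 ^ (d + j)) = true)
    (h : ∀ b, b < 2 ^ j → belowBlock d n p b = true) : allBelow (d + j) n p = true := by
  rw [allBelow, cond_false_eq_true]
  exact ⟨hn, allBlock_of_blocks d _ j 0 fun b _ hb => h b (by simpa using hb)⟩

/-- The body of `checkRels`. -/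
noncomputable def relsAt (Tb : Nat → Nat) (rels : List (List Nat)) (i : Nat) : Bool :=
  allList (fun w => Nat.beq (follow (tget Tb) i w) i) rels

theorem checkRels_of_blocks {d j n : Nat} {Tb : Nat → Nat} {rels : List (List Nat)}
    (hn : Nat.ble n (2 ^ (d + j)) = true)
    (h : ∀ b, b < 2 ^ j → belowBlock d n (relsAt Tb rels) b = true) :
    checkRels n (d + j) Tb rels = true := allBelow_of_blocks hn h

/-- The body of `checkChunks`. -/
noncomputable def chunkAt (E iv : Nat → Nat) (R : Tr (List Nat × Nat)) (eps N : Nat)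
    (C : Nat → Nat) (c : Nat) : Bool :=
  checkSteps E iv R eps chunk (Nat.add N (Nat.mul chunk c)) (C c)

theorem checkChunks_of_blocks {d j nC : Nat} {E iv : Nat → Nat} {R : Tr (List Nat × Nat)}
    {eps N : Nat} {C : Nat → Nat} (hn : Nat.ble nC (2 ^ (d + j)) = true)
    (h : ∀ b, b < 2 ^ j → belowBlock d nC (chunkAt E iv R eps N C) b = true) :
    checkChunks E iv R eps (d + j) N nC C = true := allBelow_of_blocks hn h

/-- The body of `checkTable`. -/
noncomputable def tableAt (E iv : Nat → Nat) (bd n k dk : Nat) (Rep Ref Tb : Nat → Nat) (i : Nat) :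
    Bool :=
  allBelow dk k fun l =>
    cond (Nat.ble (Nat.add (tget Tb i l) 1) n)
      (cond (Nat.ble (Nat.add (Nat.shiftRight (tget Ref i l) 1) 1) bd)
        (edgeIs iv (E (Nat.shiftRight (tget Ref i l) 1)) (Nat.land (tget Ref i l) 1)
          (Rep i) l (Rep (tget Tb i l))) false) false

theorem checkTable_of_blocks {d j bd n k dk : Nat} {E iv Rep Ref Tb : Nat → Nat}
    (h0 : Nat.beq (Rep 0) 0 = true) (hn : Nat.ble n (2 ^ (d + j)) = true)
    (h : ∀ b, b < 2 ^ j → belowBlock d n (tableAt E iv bd n k dk Rep Ref Tb) b = true) :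
    checkTable E iv bd n k (d + j) dk Rep Ref Tb = true := by
  unfold checkTable
  rw [cond_false_eq_true]
  exact ⟨h0, allBelow_of_blocks hn h⟩

/-- The body of `checkPerm`. -/
noncomputable def permAt (iv : Nat → Nat) (n k dk : Nat) (Tb : Nat → Nat) (i : Nat) : Bool :=
  allBelow dk k fun l =>
    cond (Nat.ble (Nat.add (tget Tb i l) 1) n)
      (Nat.beq (tget Tb (tget Tb i l) (iv l)) i) false

theorem checkPerm_of_blocks {d j n k dk : Nat} {iv Tb : Nat → Nat}
    (hi : allBelow dk k (fun l => cond (Nat.ble (Nat.add (iv l) 1) k) (Nat.beq (iv (iv l)) l) false) =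
      true) (hn : Nat.ble n (2 ^ (d + j)) = true)
    (h : ∀ b, b < 2 ^ j → belowBlock d n (permAt iv n k dk Tb) b = true) :
    checkPerm iv n k (d + j) dk Tb = true := by
  unfold checkPerm
  rw [cond_false_eq_true]
  exact ⟨allBelow_of_blocks hn h, hi⟩

end CfsgLib.Coset
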