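import Cfsg.Agent.Coset.Sift

/-!
Elements intertwining given elements: a search along a base with transversal words, pruned by the relations
between base points that the elements impose.  The search ends in a subgroup with known generators.
-/

set_option autoImplicit false

namespace CfsgLib.Coset

/-- A base with transversal words. -/
structure BaseData where
  /-- the number of levels -/
  k : Nat
  /-- the sizes of the transversals -/
  m : Nat → Nat
  /-- logarithmic bounds on the sizes -/
  d : Nat → Nat
  /-- the base points -/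
  B : Nat → Nat
  /-- the transversal words -/
  wd : Nat → Nat → List Nat
  /-- the position of a point among the images of the base point -/
  pos : Nat → Nat → Nat

section Kernel

/-- Unpack a word: hexadecimal digits `letter + 1`, least significant first. -/
noncomputable def unpack4 (fuel e : Nat) : List Nat :=
  Nat.rec (motive := fun _ => Nat → List Nat) (fun _ => [])
    (fun _ ih e => force e fun v =>
      cond (Nat.beq v 0) [] (Nat.sub (Nat.land v 15) 1 :: ih (Nat.shiftRight v 4))) fuel e

/-- The product of transversal words below level `i`, deepest first. -/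
noncomputable def BaseData.elw (S : BaseData) (i : Nat) (j : Nat → Nat) : List Nat :=
  Nat.rec (motive := fun _ => List Nat) [] (fun i ih => S.wd i (j i) ++ ih) i

/-- One level is as claimed. -/
noncomputable def BaseData.checkLev (S : BaseData) (Tb : Nat → Nat) (n k i : Nat) : Bool :=
  cond (Nat.ble (Nat.add (S.B i) 1) n)
    (allBelow (S.d i) (S.m i) fun j =>
      cond (checkLetters k [S.wd i j])
        (cond (allBelow 4 i fun h => Nat.beq (followF (tget Tb) (S.B h) (S.wd i j)) (S.B h))
          (Nat.beq (S.pos i (followF (tget Tb) (S.B i) (S.wd i j))) j) false) false) false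

/-- The relations of one level: `(r, s, l)` says that the `l`-th element moves the `r`-th base point to the `s`-th. -/
noncomputable def BaseData.checkCons (S : BaseData) (Tb : Nat → Nat) (ys' : List (List Nat))
    (cons : Nat → List (Nat × Nat × Nat)) : Bool :=
  cond (Nat.ble ys'.length 64)
    (allBelow 4 S.k fun i => cond (Nat.beq (S.wd i 0).length 0) (allList (fun c =>
    cond (Nat.ble c.1 i) (cond (Nat.ble c.2.1 i) (cond (Nat.ble (Nat.add c.2.2 1) ys'.length)
      (Nat.beq (followF (tget Tb) (S.B c.1) (ys'.getD c.2.2 [])) (S.B c.2.1)) false) false) false) (cons i)) false) false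

/-- The images obey the relations. -/
noncomputable def okC (Tb : Nat → Nat) (ys : List (List Nat)) (cs : List (Nat × Nat × Nat))
    (imgs : List Nat) : Bool :=
  allList (fun c => Nat.beq (followF (tget Tb) (imgs.getD c.1 0) (ys.getD c.2.2 [])) (imgs.getD c.2.1 0)) cs

/-- The element fails one of the equations. -/
noncomputable def BaseData.leafBad (S : BaseData) (Tb : Nat → Nat) (ys ys' : List (List Nat))
    (h : List Nat) : Bool :=
  cond (allBelow 6 ys'.length fun l => allBelow 4 S.k fun i =>
    Nat.beq (followF (tget Tb) (followF (tget Tb) (S.B i) h) (ys.getD l []))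
      (followF (tget Tb) (followF (tget Tb) (S.B i) (ys'.getD l [])) h)) false true

/-- No intertwining element begins with the word. -/
noncomputable def BaseData.ref (S : BaseData) (Tb : Nat → Nat) (ys ys' : List (List Nat))
    (cons : Nat → List (Nat × Nat × Nat)) (fuel : Nat) : Nat → List Nat → List Nat → Bool :=
  Nat.rec (motive := fun _ => Nat → List Nat → List Nat → Bool)
    (fun _ h _ => S.leafBad Tb ys ys' h)
    (fun _ ih i h imgs => allBelow (S.d i) (S.m i) fun j =>
      force (followF (tget Tb) (followF (tget Tb) (S.B i) (S.wd i j)) h) fun q =>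
        cond (okC Tb ys (cons i) (imgs ++ [q])) (ih (Nat.succ i) (S.wd i j ++ h) (imgs ++ [q])) true) fuel

/-- One level of the main path: every candidate is moved towards the base point or refuted. -/
noncomputable def BaseData.pathLev (S : BaseData) (Tb : Nat → Nat) (ys ys' : List (List Nat))
    (cons : Nat → List (Nat × Nat × Nat)) (Kw : List (List Nat)) (Sh : Nat → Nat) (pre : List Nat)
    (i : Nat) : Bool :=
  allBelow (S.d i) (S.m i) fun j =>
    force (followF (tget Tb) (S.B i) (S.wd i j)) fun q =>
      cond (Nat.beq q (S.B i)) true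
        (force (field (Sh j) 0) fun c =>
          cond (Nat.beq c 0)
            (cond (okC Tb ys (cons i) (pre ++ [q]))
              (S.ref Tb ys ys' cons (Nat.sub S.k (Nat.succ i)) (Nat.succ i) (S.wd i j) (pre ++ [q])) true)
            (cond (Nat.ble c Kw.length)
              (cond (allList (fun b => Nat.beq (followF (tget Tb) b (Kw.getD (Nat.sub c 1) [])) b) pre)
                (force (followF (tget Tb) q (Kw.getD (Nat.sub c 1) [])) fun q' =>
                  force (S.pos i q') fun j' =>
                    cond (Nat.beq q' (S.B i)) true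
                      (cond (Nat.ble (Nat.add j' 1) (S.m i))
                        (cond (Nat.beq (followF (tget Tb) (S.B i) (S.wd i j')) q')
                          (Nat.ble (Nat.add (field (Sh j') 1) 1) (field (Sh j) 1)) false) false))
                false) false))

/-- The words commute with the elements. -/
noncomputable def BaseData.checkComm (S : BaseData) (Tb : Nat → Nat) (ys Kw : List (List Nat)) : Bool :=
  allList (fun y => allList (fun w => allBelow 4 S.k fun i =>
    Nat.beq (followF (tget Tb) (followF (tget Tb) (S.B i) w) y)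
      (followF (tget Tb) (followF (tget Tb) (S.B i) y) w)) Kw) ys

end Kernel

variable {G : Type*} [Group G] {n : Nat} {ρ : G →* Equiv.Perm (Fin n)} {L : List G} {Tb : Nat → Nat}

/-- The certificate is right for the group. -/
structure BaseData.Valid (S : BaseData) (L : List G) (ρ : G →* Equiv.Perm (Fin n))
    (Tb : Nat → Nat) : Prop where
  hm : Matches L ρ Tb
  lev : ∀ i < S.k, S.checkLev Tb n L.length i = true
  card : Nat.card G = ∏ i : Fin S.k, S.m i
  fin : Finite G

namespace BaseData.Valid

variable {S : BaseData}

theorem base_lt (V : S.Valid L ρ Tb) {i : Nat} (hi : i < S.k) : S.B i < n :=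
  Nat.ble_eq.mp (cond_false_eq_true.mp (V.lev i hi)).1

theorem wd_ok (V : S.Valid L ρ Tb) {i : Nat} (hi : i < S.k) {j : Nat} (hj : j < S.m i) :
    (∀ l ∈ S.wd i j, l < L.length) ∧
    (∀ h < i, follow (tget Tb) (S.B h) (S.wd i j) = S.B h) ∧
    S.pos i (follow (tget Tb) (S.B i) (S.wd i j)) = j := by
  have h1 := cond_false_eq_true.mp (of_allBelow (cond_false_eq_true.mp (V.lev i hi)).2 j hj)
  have h2 := cond_false_eq_true.mp h1.2
  refine ⟨letters_lt h1.1 _ (List.mem_singleton_self _), fun g hg => ?_, ?_⟩
  · simpa only [followF_eq] using Nat.eq_of_beq_eq_true (of_allBelow h2.1 g hg)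
  · simpa only [followF_eq] using Nat.eq_of_beq_eq_true h2.2

theorem elw_letters (V : S.Valid L ρ Tb) {j : Nat → Nat} (hj : ∀ i < S.k, j i < S.m i) :
    ∀ i ≤ S.k, ∀ l ∈ S.elw i j, l < L.length := by
  intro i
  induction i with
  | zero => intro _ l hl; simp [BaseData.elw] at hl
  | succ i ih =>
    intro hi l hl
    rcases List.mem_append.mp hl with h | h
    · exact (V.wd_ok hi (hj i hi)).1 l h
    · exact ih (by omega) l h

theorem elw_base (V : S.Valid L ρ Tb) {j : Nat → Nat} (hj : ∀ i < S.k, j i < S.m i) {h : Nat} :
    ∀ i ≤ S.k, h < i → follow (tget Tb) (S.B h) (S.elw i j) =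
      follow (tget Tb) (follow (tget Tb) (S.B h) (S.wd h (j h))) (S.elw h j) := by
  intro i
  induction i with
  | zero => intro _ hh; omega
  | succ i ih =>
    intro hi hh
    show follow (tget Tb) (S.B h) (S.wd i (j i) ++ S.elw i j) = _
    rw [follow_append_list]
    rcases Nat.lt_succ_iff_lt_or_eq.mp hh with hlt | rfl
    · rw [(V.wd_ok hi (hj i hi)).2.1 h hlt, ih (by omega) hlt]
    · rfl

theorem elw_inj (V : S.Valid L ρ Tb) {j j' : Nat → Nat} (hj : ∀ i < S.k, j i < S.m i)
    (hj' : ∀ i < S.k, j' i < S.m i) {t : Nat} (ht : t ≤ S.k)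
    (h : ∀ i < t, follow (tget Tb) (S.B i) (S.elw S.k j) = follow (tget Tb) (S.B i) (S.elw S.k j')) :
    S.elw t j = S.elw t j' ∧ ∀ i < t, j i = j' i := by
  induction t with
  | zero => exact ⟨rfl, fun i hi => absurd hi (by omega)⟩
  | succ t ih =>
    have hti : t < S.k := ht
    obtain ⟨he, hs⟩ := ih (by omega) fun i hi => h i (by omega)
    have e := h t (by omega)
    rw [V.elw_base hj S.k le_rfl hti, V.elw_base hj' S.k le_rfl hti, ← he] at e
    have hl := V.elw_letters hj t (by omega)
    have hlt : ∀ {w : List Nat}, (∀ l ∈ w, l < L.length) → follow (tget Tb) (S.B t) w < n := fun hw =>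
      follow_lt V.hm hw (V.base_lt hti)
    rw [← im_ev V.hm hl (hlt (V.wd_ok hti (hj t hti)).1),
      ← im_ev V.hm hl (hlt (V.wd_ok hti (hj' t hti)).1)] at e
    have e2 := congrArg (S.pos t) (im_injective _ e)
    rw [(V.wd_ok hti (hj t hti)).2.2, (V.wd_ok hti (hj' t hti)).2.2] at e2
    refine ⟨?_, fun i hi => ?_⟩
    · show S.wd t (j t) ++ S.elw t j = S.wd t (j' t) ++ S.elw t j'
      rw [e2, he]
    · rcases Nat.lt_succ_iff_lt_or_eq.mp hi with hlt | rfl
      · exact hs i hlt
      · exact e2

/-- Coordinates extended to all numbers. -/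
def ext0 (S : BaseData) (p : (i : Fin S.k) → Fin (S.m i)) (i : Nat) : Nat :=
  if h : i < S.k then (p ⟨i, h⟩ : Nat) else 0

theorem ext0_lt (p : (i : Fin S.k) → Fin (S.m i)) : ∀ i < S.k, ext0 S p i < S.m i := by
  intro i hi
  rw [ext0, dif_pos hi]
  exact (p ⟨i, hi⟩).isLt

theorem exists_elw (V : S.Valid L ρ Tb) (x : G) :
    ∃ j : Nat → Nat, (∀ i < S.k, j i < S.m i) ∧ x = ev L (S.elw S.k j) := by
  have := V.fin
  have hbij : Function.Bijective (fun p : (i : Fin S.k) → Fin (S.m i) =>
      ev L (S.elw S.k (ext0 S p))) := by
    refine (Nat.bijective_iff_injective_and_card _).mpr ⟨fun p q h => ?_, ?_⟩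
    · funext i
      have := (V.elw_inj (ext0_lt p) (ext0_lt q) le_rfl (fun i hi => by
        rw [← im_ev V.hm (V.elw_letters (ext0_lt p) _ le_rfl) (V.base_lt hi),
          ← im_ev V.hm (V.elw_letters (ext0_lt q) _ le_rfl) (V.base_lt hi)]
        exact congrArg (fun g => im ρ g (S.B i)) h)).2 i i.isLt
      simp only [ext0, dif_pos i.isLt] at this
      exact Fin.ext this
    · rw [V.card, Nat.card_pi]; simp
  obtain ⟨p, hp⟩ := hbij.2 x
  exact ⟨_, ext0_lt p, hp.symm⟩

/-- An element is determined by the images of the base. -/
theorem ext (V : S.Valid L ρ Tb) {x y : G} (h : ∀ i < S.k, im ρ x (S.B i) = im ρ y (S.B i)) :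
    x = y := by
  obtain ⟨j, hj, rfl⟩ := V.exists_elw x
  obtain ⟨j', hj', rfl⟩ := V.exists_elw y
  rw [(V.elw_inj hj hj' le_rfl fun i hi => by
    rw [← im_ev V.hm (V.elw_letters hj _ le_rfl) (V.base_lt hi),
      ← im_ev V.hm (V.elw_letters hj' _ le_rfl) (V.base_lt hi)]
    exact h i hi).1]

/-- Two words agree on the base. -/
noncomputable def _root_.CfsgLib.Coset.BaseData.eqW (S : BaseData) (Tb : Nat → Nat) (u w : List Nat) : Bool :=
  allBelow 4 S.k fun i => Nat.beq (followF (tget Tb) (S.B i) u) (followF (tget Tb) (S.B i) w)

theorem eq_of_eqW (V : S.Valid L ρ Tb) {u w : List Nat}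
    (hl : checkLetters L.length [u, w] = true) (h : S.eqW Tb u w = true) : ev L u = ev L w := by
  refine V.ext fun i hi => ?_
  rw [im_ev V.hm (letters_lt hl u (by simp)) (V.base_lt hi),
    im_ev V.hm (letters_lt hl w (by simp)) (V.base_lt hi)]
  simpa only [followF_eq] using Nat.eq_of_beq_eq_true (of_allBelow h i hi)

theorem ne_of_eqW (V : S.Valid L ρ Tb) (hk : S.k ≤ 16) {u w : List Nat}
    (hl : checkLetters L.length [u, w] = true) (h : S.eqW Tb u w = false) : ev L u ≠ ev L w := fun e => by
  have : S.eqW Tb u w = true := allBelow_of (by simpa using hk) fun i hi => by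
    rw [followF_eq, followF_eq, ← im_ev V.hm (letters_lt hl u (by simp)) (V.base_lt hi),
      ← im_ev V.hm (letters_lt hl w (by simp)) (V.base_lt hi), e]
    exact Nat.beq_refl _
  rw [h] at this
  exact Bool.noConfusion this

section Search

variable {ys ys' : List (List Nat)} {cons : Nat → List (Nat × Nat × Nat)}

/-- An intertwining element. -/
def Sat (L : List G) (ys ys' : List (List Nat)) (g : G) : Prop :=
  ∀ l < ys'.length, g * ev L (ys.getD l []) = ev L (ys'.getD l []) * g

theorem ys_letters {k : Nat} (h : checkLetters k (ys ++ ys') = true) (l : Nat) :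
    (∀ x ∈ ys.getD l [], x < k) ∧ ∀ x ∈ ys'.getD l [], x < k := by
  refine ⟨letters_getD (allList_iff.mpr fun w hw => ?_) l, letters_getD (allList_iff.mpr fun w hw => ?_) l⟩
  · exact allList_iff.mp h w (List.mem_append_left _ hw)
  · exact allList_iff.mp h w (List.mem_append_right _ hw)

theorem cons_spec (hc : S.checkCons Tb ys' cons = true) :
    ys'.length ≤ 2 ^ 6 ∧ S.k ≤ 2 ^ 4 ∧ ∀ i < S.k, S.wd i 0 = [] := by
  have h := cond_false_eq_true.mp hc
  refine ⟨Nat.ble_eq.mp h.1, Nat.ble_eq.mp (cond_false_eq_true.mp h.2).1, fun i hi => ?_⟩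
  exact List.length_eq_zero_iff.mp (Nat.eq_of_beq_eq_true (cond_false_eq_true.mp (of_allBelow h.2 i hi)).1)

/-- An intertwining element obeys the relations of each level. -/
theorem okC_of_sat (V : S.Valid L ρ Tb) (hy : checkLetters L.length (ys ++ ys') = true)
    (hc : S.checkCons Tb ys' cons = true) {g : G} (hg : Sat L ys ys' g) {i : Nat} (hi : i < S.k)
    {imgs : List Nat} (himg : ∀ r ≤ i, imgs.getD r 0 = im ρ g (S.B r)) : okC Tb ys (cons i) imgs = true := by
  refine allList_iff.mpr fun c hcm => ?_
  have h1 := allList_iff.mp (cond_false_eq_true.mp (of_allBelow (cond_false_eq_true.mp hc).2 i hi)).2 c hcm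
  simp only [cond_false_eq_true] at h1
  obtain ⟨hr, hs, hl, he⟩ := h1
  have hr' := Nat.ble_eq.mp hr
  have hs' := Nat.ble_eq.mp hs
  obtain ⟨hly, hly'⟩ := ys_letters hy c.2.2
  rw [himg _ hr', himg _ hs', followF_eq, ← im_ev V.hm hly (im_lt _ (V.base_lt (by omega))), ← im_mul,
    hg _ (Nat.ble_eq.mp hl), im_mul, im_ev V.hm hly' (V.base_lt (by omega))]
  rw [followF_eq] at he
  rw [Nat.eq_of_beq_eq_true he]
  exact Nat.beq_refl _

theorem ref_sound (V : S.Valid L ρ Tb) (hy : checkLetters L.length (ys ++ ys') = true)
    (hc : S.checkCons Tb ys' cons = true) {g : G} (hg : Sat L ys ys' g) {j : Nat → Nat}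
    (hj : ∀ i < S.k, j i < S.m i) (hgj : g = ev L (S.elw S.k j)) :
    ∀ (fuel i : Nat) (imgs : List Nat), i + fuel = S.k → imgs.length = i →
      (∀ r < i, imgs.getD r 0 = im ρ g (S.B r)) → S.ref Tb ys ys' cons fuel i (S.elw i j) imgs = false := by
  intro fuel
  induction fuel with
  | zero =>
    intro i imgs hik _ _
    have hik' : i = S.k := hik
    subst hik'
    show S.leafBad Tb ys ys' (S.elw S.k j) = false
    rw [BaseData.leafBad]
    have hlw := V.elw_letters hj S.k le_rfl
    obtain ⟨hlen, hk, -⟩ := cons_spec hc
    rw [allBelow_of hlen fun l hl => allBelow_of hk fun r hr => ?_, cond_true]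
    obtain ⟨hly, hly'⟩ := ys_letters hy l
    have hb := V.base_lt hr
    rw [followF_eq, followF_eq, followF_eq, followF_eq,
      ← im_ev V.hm hly (follow_lt V.hm hlw hb), ← im_ev V.hm hlw hb, ← im_mul,
      ← im_ev V.hm hlw (follow_lt V.hm hly' hb), ← im_ev V.hm hly' hb, ← im_mul, ← hgj, hg l hl]
    exact Nat.beq_refl _
  | succ fuel ih =>
    intro i imgs hik hlen himg
    have hi : i < S.k := by omega
    have hw := V.wd_ok hi (hj i hi)
    have hl := V.elw_letters hj i (by omega)
    have hq : follow (tget Tb) (follow (tget Tb) (S.B i) (S.wd i (j i))) (S.elw i j) = im ρ g (S.B i) := by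
      rw [hgj, im_ev V.hm (V.elw_letters hj S.k le_rfl) (V.base_lt hi), V.elw_base hj S.k le_rfl hi]
    have himg' : ∀ r ≤ i, (imgs ++ [im ρ g (S.B i)]).getD r 0 = im ρ g (S.B r) := by
      intro r hr
      rcases Nat.lt_or_eq_of_le hr with hlt | rfl
      · rw [List.getD_append _ _ _ _ (by omega), himg r hlt]
      · rw [List.getD_append_right _ _ _ _ (by omega), hlen, Nat.sub_self]
        rfl
    cases hres : S.ref Tb ys ys' cons (fuel + 1) i (S.elw i j) imgs
    · rfl
    · exfalso
      have h1 := of_allBelow hres (j i) (hj i hi)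
      rw [force_eq] at h1
      rw [show followF (tget Tb) (followF (tget Tb) (S.B i) (S.wd i (j i))) (S.elw i j) = im ρ g (S.B i) by
        rw [followF_eq, followF_eq, hq]] at h1
      rw [okC_of_sat V hy hc hg hi himg', cond_true] at h1
      have h2 := ih (i + 1) (imgs ++ [im ρ g (S.B i)]) (by omega) (by simp [hlen])
        fun r hr => himg' r (by omega)
      change S.ref Tb ys ys' cons fuel (i + 1) (S.wd i (j i) ++ S.elw i j) (imgs ++ [im ρ g (S.B i)]) = false at h2
      change S.ref Tb ys ys' cons fuel (i + 1) (S.wd i (j i) ++ S.elw i j) (imgs ++ [im ρ g (S.B i)]) = true at h1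
      rw [h2] at h1
      exact Bool.noConfusion h1

/-- No element intertwines. -/
theorem no_sat (V : S.Valid L ρ Tb) (hy : checkLetters L.length (ys ++ ys') = true)
    (hc : S.checkCons Tb ys' cons = true) (hr : S.ref Tb ys ys' cons S.k 0 [] [] = true) (g : G)
    (hg : Sat L ys ys' g) : False := by
  obtain ⟨j, hj, hgj⟩ := V.exists_elw g
  have := ref_sound V hy hc hg hj hgj S.k 0 [] (Nat.zero_add _) rfl (fun r hr' => absurd hr' (by omega))
  change S.ref Tb ys ys' cons S.k 0 [] [] = false at this
  rw [hr] at this
  exact Bool.noConfusion this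

/-- The base points below a level. -/
noncomputable def _root_.CfsgLib.Coset.BaseData.preB (S : BaseData) (i : Nat) : List Nat :=
  Nat.rec (motive := fun _ => List Nat) [] (fun i ih => ih ++ [S.B i]) i

theorem preB_length : ∀ i, (S.preB i).length = i
  | 0 => rfl
  | i + 1 => by show (S.preB i ++ [S.B i]).length = i + 1; simp [preB_length i]

theorem preB_getD : ∀ i r, r < i → (S.preB i).getD r 0 = S.B r
  | i + 1, r, hr => by
    show (S.preB i ++ [S.B i]).getD r 0 = S.B r
    rcases Nat.lt_succ_iff_lt_or_eq.mp hr with hlt | rfl
    · rw [List.getD_append _ _ _ _ (by rw [preB_length]; omega), preB_getD i r hlt]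
    · rw [List.getD_append_right _ _ _ _ (by rw [preB_length]), preB_length, Nat.sub_self]
      rfl

/-- Every intertwining element lies in the subgroup generated along the path. -/
theorem mem_of_sat (V : S.Valid L ρ Tb) (hy : checkLetters L.length (ys ++ ys') = true)
    (hc : S.checkCons Tb ys' cons = true) {Kw : List (List Nat)} {Sh : Nat → Nat → Nat}
    (hK : checkLetters L.length Kw = true) (hcomm : S.checkComm Tb ys Kw = true)
    (hp : ∀ i < S.k, S.pathLev Tb ys ys' cons Kw (Sh i) (S.preB i) i = true)
    (hlen : ys'.length ≤ ys.length) {K : Subgroup G} (hKw : ∀ w ∈ Kw, ev L w ∈ K) :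
    ∀ g, Sat L ys ys' g → g ∈ K := by
  suffices ∀ t i, i + t = S.k → ∀ g, Sat L ys ys' g → (∀ r < i, im ρ g (S.B r) = S.B r) → g ∈ K from
    fun g hg => this S.k 0 (Nat.zero_add _) g hg fun r hr => absurd hr (by omega)
  intro t
  induction t with
  | zero =>
    intro i hik g _ hfix
    have : g = 1 := V.ext fun r hr => by rw [hfix r (by omega), im_one]
    exact this ▸ one_mem K
  | succ t ih =>
    intro i hik g hg hfix
    have hi : i < S.k := by omega
    suffices hrank : ∀ R : Nat, ∀ g, Sat L ys ys' g → (∀ r < i, im ρ g (S.B r) = S.B r) →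
        field (Sh i (S.pos i (im ρ g (S.B i)))) 1 = R → g ∈ K from hrank _ g hg hfix rfl
    intro R
    induction R using Nat.strong_induction_on with
    | _ R ihR =>
      intro g hg hfix hR
      obtain ⟨j, hj, hgj⟩ := V.exists_elw g
      -- the prefix of the element is trivial
      have hlk := V.elw_letters hj S.k le_rfl
      have hj0 : ∀ r < S.k, (fun _ => 0 : Nat → Nat) r < S.m r := fun r hr =>
        Nat.lt_of_le_of_lt (Nat.zero_le _) (hj r hr)
      have hzero : ∀ r ≤ S.k, S.elw r (fun _ => 0) = [] := by
        intro r
        induction r with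
        | zero => intro _; rfl
        | succ r ih' =>
          intro hr
          show S.wd r 0 ++ S.elw r (fun _ => 0) = []
          rw [(cons_spec hc).2.2 r hr, ih' (by omega)]
          rfl
      have hpre : S.elw i j = [] := by
        rw [(V.elw_inj hj hj0 (by omega : i ≤ S.k) fun r hr => ?_).1, hzero i (by omega)]
        rw [← im_ev V.hm hlk (V.base_lt (by omega)), ← hgj, hfix r hr, hzero S.k le_rfl]
        rfl
      have himg : im ρ g (S.B i) = follow (tget Tb) (follow (tget Tb) (S.B i) (S.wd i (j i))) (S.elw i j) := by
        rw [hgj, im_ev V.hm hlk (V.base_lt hi), V.elw_base hj S.k le_rfl hi]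
      have hw := V.wd_ok hi (hj i hi)
      have hq : follow (tget Tb) (S.B i) (S.wd i (j i)) = im ρ g (S.B i) := by
        rw [himg, hpre]
        rfl
      have hpos : S.pos i (im ρ g (S.B i)) = j i := by rw [← hq]; exact hw.2.2
      rw [hpos] at hR
      have h1 := of_allBelow (hp i hi) (j i) (hj i hi)
      simp only [force_eq, followF_eq, hq] at h1
      cases hb : Nat.beq (im ρ g (S.B i)) (S.B i) with
      | true =>
        refine ih (i + 1) (by omega) g hg fun r hr => ?_
        rcases Nat.lt_succ_iff_lt_or_eq.mp hr with hlt | rfl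
        · exact hfix r hlt
        · exact Nat.eq_of_beq_eq_true hb
      | false =>
        rw [hb, cond_false] at h1
        cases hcz : Nat.beq (field (Sh i (j i)) 0) 0 with
        | true =>
          exfalso
          rw [hcz, cond_true] at h1
          have himg' : ∀ r ≤ i, (S.preB i ++ [im ρ g (S.B i)]).getD r 0 = im ρ g (S.B r) := by
            intro r hr
            rcases Nat.lt_or_eq_of_le hr with hlt | rfl
            · rw [List.getD_append _ _ _ _ (by rw [preB_length]; omega), preB_getD i r hlt, hfix r hlt]
            · rw [List.getD_append_right _ _ _ _ (by rw [preB_length]), preB_length, Nat.sub_self]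
              rfl
          rw [okC_of_sat V hy hc hg hi himg', cond_true] at h1
          -- the transversal word stands for the whole prefix
          have h2 := ref_sound V hy hc hg hj hgj (S.k - (i + 1)) (i + 1)
            (S.preB i ++ [im ρ g (S.B i)]) (by omega) (by simp [preB_length]) fun r hr => himg' r (by omega)
          change S.ref Tb ys ys' cons (S.k - (i + 1)) (i + 1) (S.wd i (j i) ++ S.elw i j) _ = false at h2
          rw [hpre, List.append_nil] at h2
          change S.ref Tb ys ys' cons (S.k - (i + 1)) (i + 1) (S.wd i (j i)) _ = true at h1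
          rw [h2] at h1
          exact Bool.noConfusion h1
        | false =>
          rw [hcz, cond_false] at h1
          simp only [cond_false_eq_true] at h1
          obtain ⟨hcl, hfixk, hrest⟩ := h1
          set kw := Kw.getD (Nat.sub (field (Sh i (j i)) 0) 1) [] with hkw
          have hkmem : kw ∈ Kw := by
            have hlt : Nat.sub (field (Sh i (j i)) 0) 1 < Kw.length := by
              have hne : field (Sh i (j i)) 0 ≠ 0 := fun e => by
                rw [e] at hcz; exact Bool.noConfusion hcz
              have := Nat.ble_eq.mp hcl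
              show field (Sh i (j i)) 0 - 1 < Kw.length
              omega
            rw [hkw, List.getD_eq_getElem _ _ hlt]
            exact List.getElem_mem hlt
          have hkl := letters_lt hK kw hkmem
          -- shifting by an element of the subgroup
          have hfix' : ∀ r < i, im ρ (g * ev L kw) (S.B r) = S.B r := by
            intro r hr
            rw [im_mul, hfix r hr, im_ev V.hm hkl (V.base_lt (by omega))]
            have := allList_iff.mp hfixk (S.B r) (by
              rw [← preB_getD i r hr, List.getD_eq_getElem _ _ (by rw [preB_length]; omega)]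
              exact List.getElem_mem _)
            simpa only [followF_eq] using Nat.eq_of_beq_eq_true this
          have hsat' : Sat L ys ys' (g * ev L kw) := by
            intro l hl
            have hmem : ys.getD l [] ∈ ys := by
              rw [List.getD_eq_getElem _ _ (by omega)]; exact List.getElem_mem _
            have hcm : ev L kw * ev L (ys.getD l []) = ev L (ys.getD l []) * ev L kw := by
              refine V.ext fun r hr => ?_
              have hb' := V.base_lt hr
              have hly := (ys_letters hy l).1
              rw [im_mul, im_mul, im_ev V.hm hkl hb', im_ev V.hm hly hb',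
                im_ev V.hm hly (follow_lt V.hm hkl hb'), im_ev V.hm hkl (follow_lt V.hm hly hb')]
              simpa only [followF_eq] using
                Nat.eq_of_beq_eq_true (of_allBelow (allList_iff.mp (allList_iff.mp hcomm _ hmem) kw hkmem) r hr)
            calc g * ev L kw * ev L (ys.getD l []) = g * (ev L kw * ev L (ys.getD l [])) := mul_assoc _ _ _
              _ = g * ev L (ys.getD l []) * ev L kw := by rw [hcm, mul_assoc]
              _ = _ := by rw [hg l hl, mul_assoc]
          have hq' : follow (tget Tb) (im ρ g (S.B i)) kw = im ρ (g * ev L kw) (S.B i) := by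
            rw [im_mul, im_ev V.hm hkl (im_lt _ (V.base_lt hi))]
          simp only [hq'] at hrest
          have hmem' : g * ev L kw ∈ K → g ∈ K := fun h =>
            (Subgroup.mul_mem_cancel_right K (hKw kw hkmem)).mp h
          refine hmem' ?_
          cases hb' : Nat.beq (im ρ (g * ev L kw) (S.B i)) (S.B i) with
          | true =>
            refine ih (i + 1) (by omega) _ hsat' fun r hr => ?_
            rcases Nat.lt_succ_iff_lt_or_eq.mp hr with hlt | rfl
            · exact hfix' r hlt
            · exact Nat.eq_of_beq_eq_true hb'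
          | false =>
            rw [hb', cond_false] at hrest
            simp only [cond_false_eq_true] at hrest
            refine ihR (field (Sh i (S.pos i (im ρ (g * ev L kw) (S.B i)))) 1) ?_ _ hsat' hfix' rfl
            have := Nat.ble_eq.mp hrest.2.2
            simp only [Nat.add_eq] at this
            omega

end Search

end BaseData.Valid

end CfsgLib.Coset
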