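import Cfsg.Agent.Coset.Prim
import Mathlib.GroupTheory.Index
import Mathlib.Data.List.GetD

/-!
Soundness of coset-enumeration certificates.

Nodes are natural numbers, node `i` stands for the coset `H * rp i`.  An edge number packs
`(b, a, x)` and claims `rp b * x * (rp a)⁻¹ ∈ H`.  A certificate step closes a cycle of earlier
edges reading a rotation of a relator (or of a subgroup word, with a marker at node `0`).
-/

set_option autoImplicit false

namespace CfsgLib.Coset

/-- The marker inside rule words. -/
def mrk : Nat := 255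

section Kernel

/-- Tail of an edge. -/
noncomputable def eb (v : Nat) : Nat := Nat.land v fmask
/-- Head of an edge. -/
noncomputable def ea (v : Nat) : Nat := Nat.land (Nat.shiftRight v 24) fmask
/-- Letter of an edge. -/
noncomputable def ex (v : Nat) : Nat := Nat.land (Nat.shiftRight v 48) 255

/-- Remove a marker when standing at node `0`. -/
noncomputable def pop (p : Nat) (w : List Nat) : List Nat :=
  List.rec [] (fun h t _ => cond (Nat.beq h mrk) (cond (Nat.beq p 0) t (h :: t)) (h :: t)) w

/-- Consume one letter of the rule word. -/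
noncomputable def eat (x eps : Nat) (w : List Nat) (K : List Nat → Bool) : Bool :=
  cond (Nat.beq x eps) (K w)
    (List.rec false (fun h t _ => cond (Nat.beq h x) (cond (Nat.beq h mrk) false (K t)) false) w)

/-- Traverse one stored edge. -/
noncomputable def orient (iv : Nat → Nat) (eps v d p : Nat) (w : List Nat)
    (K : Nat → List Nat → Bool) : Bool :=
  cond (Nat.beq d 0)
    (cond (Nat.beq p (eb v)) (eat (ex v) eps (pop p w) (K (ea v))) false)
    (cond (Nat.beq p (ea v)) (eat (iv (ex v)) eps (pop p w) (K (eb v))) false)

/-- Traverse `m` edges referenced in the stream `s`. -/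
noncomputable def walk (E iv : Nat → Nat) (eps bd : Nat) (K : Nat → List Nat → Nat → Bool) :
    Nat → Nat → List Nat → Nat → Bool :=
  fun m => Nat.rec (fun p w s => K p (pop p w) s)
    (fun _ ih p w s =>
      cond (Nat.ble (Nat.add (Nat.shiftRight (Nat.land s fmask) 1) 1) bd)
        (orient iv eps (E (Nat.shiftRight (Nat.land s fmask) 1)) (Nat.land (Nat.land s fmask) 1) p w
          (fun q w' => ih q w' (Nat.shiftRight s 24)))
        false) m

/-- The edge closing a cycle. -/
noncomputable def closes (eps v p : Nat) (w : List Nat) : Bool :=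
  cond (Nat.beq p (eb v))
    (List.rec (Nat.beq (ex v) eps)
      (fun h t _ => cond (Nat.beq h (ex v)) (cond (Nat.beq h mrk) false
        (List.rec true (fun _ _ _ => false) t)) false) w)
    false

/-- Check one step. -/
noncomputable def checkStep (E iv : Nat → Nat) (R : Tr (List Nat × Nat)) (eps id s : Nat)
    (K : Nat → Bool) : Bool :=
  walk E iv eps id (fun p w s' => cond (closes eps (E id) p w) (K s') false)
    (Nat.land (Nat.shiftRight s 24) fmask) (ea (E id)) (R.get (Nat.land s fmask)).1
    (Nat.shiftRight s 48)

/-- Check `m` consecutive steps. -/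
noncomputable def checkSteps (E iv : Nat → Nat) (R : Tr (List Nat × Nat)) (eps : Nat) :
    Nat → Nat → Nat → Bool :=
  fun m => Nat.rec (fun _ _ => true)
    (fun _ ih id s => checkStep E iv R eps id s (fun s' => ih (Nat.add id 1) s')) m

/-- Number of steps in a chunk. -/
def chunk : Nat := 64

/-- Check all chunks. -/
noncomputable def checkChunks (E iv : Nat → Nat) (R : Tr (List Nat × Nat)) (eps d N nC : Nat)
    (C : Nat → Nat) : Bool :=
  allBelow d nC (fun c => checkSteps E iv R eps chunk (Nat.add N (Nat.mul chunk c)) (C c))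

/-- Check that edge `i < N` is the definition of node `i`. -/
noncomputable def checkDefs (E : Nat → Nat) (eps d N : Nat) : Bool :=
  cond (Nat.beq (eb (E 0)) 0) (cond (Nat.beq (ea (E 0)) 0) (cond (Nat.beq (ex (E 0)) eps)
    (allBelow d N (fun i => cond (Nat.beq i 0) true
      (cond (Nat.ble (Nat.add (eb (E i)) 1) i) (Nat.beq (ea (E i)) i) false)))
    false) false) false

end Kernel

variable {G : Type*} [Group G] (L : List G) (H : Subgroup G)

/-- Group element of a letter. -/
def fl (l : Nat) : G := L.getD l 1

/-- Group element of a word. -/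
def ev (w : List Nat) : G := (w.map (fl L)).prod

@[simp] theorem ev_nil : ev L [] = 1 := rfl

@[simp] theorem ev_cons (l : Nat) (w : List Nat) : ev L (l :: w) = fl L l * ev L w := by
  simp [ev]

theorem ev_append (u v : List Nat) : ev L (u ++ v) = ev L u * ev L v := by
  simp [ev]

theorem fl_of_le {l : Nat} (h : L.length ≤ l) : fl L l = 1 := List.getD_eq_default _ _ h

/-- Cycle invariant: the rest of the word leads from `g` back to `e`. -/
def Good (e : G) : G → List Nat → Prop
  | g, [] => g * e⁻¹ ∈ H
  | g, l :: w => if l = mrk then (g ∈ H → Good e 1 w) else Good e (g * fl L l) w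

theorem good_mul {e h : G} (hh : h ∈ H) : ∀ (w : List Nat) (g : G),
    Good L H e g w → Good L H e (h * g) w := by
  intro w
  induction w with
  | nil => intro g hg; simpa [Good, mul_assoc] using H.mul_mem hh hg
  | cons l w ih =>
    intro g hg
    unfold Good at hg ⊢
    by_cases hl : l = mrk
    · simp only [hl, if_true] at hg ⊢
      intro hhg
      exact hg ((H.mul_mem_cancel_left hh).mp hhg)
    · simp only [hl, if_false] at hg ⊢
      rw [mul_assoc]
      exact ih _ hg

theorem good_of_ev_eq_one {e : G} : ∀ (w : List Nat) (g : G), mrk ∉ w →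
    (g * ev L w) * e⁻¹ ∈ H → Good L H e g w := by
  intro w
  induction w with
  | nil => intro g _ h; simpa [Good] using h
  | cons l w ih =>
    intro g hm h
    have hl : l ≠ mrk := fun e => hm (by simp [e])
    unfold Good
    simp only [hl, if_false]
    exact ih _ (fun hw => hm (by simp [hw])) (by simpa [mul_assoc] using h)

theorem good_rotation {e : G} (w : List Nat) (j : Nat) (hm : mrk ∉ w) (hw : ev L w = 1) :
    Good L H e e (w.drop j ++ w.take j) := by
  apply good_of_ev_eq_one
  · intro h
    rcases List.mem_append.mp h with h | h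
    · exact hm (List.mem_of_mem_drop h)
    · exact hm (List.mem_of_mem_take h)
  · have h1 : ev L (w.take j) * ev L (w.drop j) = 1 := by
      rw [← ev_append, List.take_append_drop, hw]
    have : ev L (w.drop j ++ w.take j) = 1 := by
      rw [ev_append, eq_inv_of_mul_eq_one_left h1]; simp
    simp [this]

theorem good_marked {e : G} : ∀ (u : List Nat) (g : G) (v : List Nat), mrk ∉ u →
    (g * ev L u ∈ H → Good L H e 1 v) → Good L H e g (u ++ mrk :: v) := by
  intro u
  induction u with
  | nil => intro g v _ h; simpa [Good] using h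
  | cons l u ih =>
    intro g v hm h
    have hl : l ≠ mrk := fun e => hm (by simp [e])
    rw [List.cons_append]
    unfold Good
    simp only [hl, if_false]
    exact ih _ _ (fun hw => hm (by simp [hw])) (by simpa [mul_assoc] using h)

theorem good_sub {e : G} (w : List Nat) (j : Nat) (hm : mrk ∉ w) (hw : ev L w ∈ H) :
    Good L H e e (w.drop j ++ mrk :: w.take j) := by
  apply good_marked
  · exact fun h => hm (List.mem_of_mem_drop h)
  · intro h
    apply good_of_ev_eq_one
    · exact fun h => hm (List.mem_of_mem_take h)
    · have h1 : ev L (w.take j) * ev L (w.drop j) ∈ H := by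
        rw [← ev_append, List.take_append_drop]; exact hw
      have := H.mul_mem h1 (H.inv_mem h)
      simpa [mul_assoc, mul_inv_rev] using this

section Sound

variable (E iv : Nat → Nat)

/-- Representatives of nodes, with fuel. -/
noncomputable def rpAux : Nat → Nat → G
  | 0, _ => 1
  | s + 1, i => if i = 0 then 1 else rpAux s (eb (E i)) * fl L (ex (E i))

/-- Representative of node `i`. -/
noncomputable def rp (i : Nat) : G := rpAux L E i i

theorem rp_zero : rp L E 0 = 1 := rfl

theorem rpAux_of_le {N : Nat} (hdef : ∀ i, i < N → i ≠ 0 → eb (E i) < i) :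
    ∀ (i : Nat), i < N → ∀ s, i ≤ s → rpAux L E s i = rp L E i := by
  intro i
  induction i using Nat.strong_induction_on with
  | _ i ih =>
    intro hi s hs
    rcases Nat.eq_zero_or_pos i with h0 | h0
    · subst h0
      cases s <;> simp [rp, rpAux]
    · obtain ⟨i', rfl⟩ : ∃ i', i = i' + 1 := ⟨i - 1, by omega⟩
      obtain ⟨s', rfl⟩ : ∃ s', s = s' + 1 := ⟨s - 1, by omega⟩
      have hb := hdef _ hi (by omega)
      simp only [rp, rpAux, Nat.succ_ne_zero, if_false]
      rw [ih _ hb (by omega) s' (by omega), ih _ hb (by omega) i' (by omega)]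

/-- Validity of an edge. -/
def EdgeOK (v : Nat) : Prop := rp L E (eb v) * fl L (ex v) * (rp L E (ea v))⁻¹ ∈ H

variable {L H E iv} {eps : Nat}

theorem good_pop {e : G} {p : Nat} {w : List Nat} (h : Good L H e (rp L E p) w) :
    Good L H e (rp L E p) (pop p w) := by
  cases w with
  | nil => exact h
  | cons x t =>
    change Good L H e _ (cond (Nat.beq x mrk) (cond (Nat.beq p 0) t (x :: t)) (x :: t))
    cases hx : Nat.beq x mrk
    · exact h
    · cases hp : Nat.beq p 0
      · exact h
      · have hx' : x = mrk := Nat.eq_of_beq_eq_true hx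
        have hp' : p = 0 := Nat.eq_of_beq_eq_true hp
        subst hp'
        unfold Good at h
        simp only [hx', if_true, rp_zero] at h
        simpa [rp_zero] using h H.one_mem

theorem good_eat {e g g' : G} (heps : fl L eps = 1) {x : Nat} {w : List Nat}
    {K : List Nat → Bool} (hx : g * fl L x * g'⁻¹ ∈ H) (hw : Good L H e g w)
    (h : eat x eps w K = true) : ∃ w', K w' = true ∧ Good L H e g' w' := by
  have hx' : g' * (g * fl L x)⁻¹ ∈ H := by
    simpa [mul_inv_rev, mul_assoc] using H.inv_mem hx
  unfold eat at h
  cases he : Nat.beq x eps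
  · rw [he] at h
    cases w with
    | nil => exact absurd h (by simp)
    | cons y t =>
      change cond (Nat.beq y x) (cond (Nat.beq y mrk) false (K t)) false = true at h
      rw [cond_false_eq_true] at h
      obtain ⟨h1, h2⟩ := h
      have hy : y = x := Nat.eq_of_beq_eq_true h1
      subst hy
      cases hm : Nat.beq y mrk
      · rw [hm] at h2
        refine ⟨t, h2, ?_⟩
        unfold Good at hw
        simp only [Nat.ne_of_beq_eq_false hm, if_false] at hw
        have := good_mul L H hx' t _ hw
        simpa [mul_assoc] using this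
      · rw [hm] at h2; simp at h2
  · rw [he] at h
    refine ⟨w, h, ?_⟩
    have hxe : x = eps := Nat.eq_of_beq_eq_true he
    rw [hxe, heps, mul_one] at hx'
    have := good_mul L H hx' w _ hw
    simpa [mul_assoc] using this

theorem good_orient {e : G} (heps : fl L eps = 1) (hiv : ∀ x, fl L (iv x) = (fl L x)⁻¹)
    {v d p : Nat} {w : List Nat} {K : Nat → List Nat → Bool}
    (hv : EdgeOK L H E v) (hw : Good L H e (rp L E p) w)
    (h : orient iv eps v d p w K = true) :
    ∃ q w', K q w' = true ∧ Good L H e (rp L E q) w' := by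
  unfold orient at h
  cases hd : Nat.beq d 0
  · rw [hd] at h
    change cond (Nat.beq p (ea v)) _ false = true at h
    rw [cond_false_eq_true] at h
    obtain ⟨hp, h⟩ := h
    have hp' : p = ea v := Nat.eq_of_beq_eq_true hp
    subst hp'
    refine ⟨eb v, good_eat heps ?_ (good_pop hw) h⟩
    rw [hiv]
    simpa [EdgeOK, mul_inv_rev, mul_assoc] using H.inv_mem hv
  · rw [hd] at h
    change cond (Nat.beq p (eb v)) _ false = true at h
    rw [cond_false_eq_true] at h
    obtain ⟨hp, h⟩ := h
    have hp' : p = eb v := Nat.eq_of_beq_eq_true hp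
    subst hp'
    exact ⟨ea v, good_eat heps hv (good_pop hw) h⟩

theorem good_walk {e : G} (heps : fl L eps = 1) (hiv : ∀ x, fl L (iv x) = (fl L x)⁻¹) {bd : Nat}
    (hE : ∀ j, j < bd → EdgeOK L H E (E j)) {K : Nat → List Nat → Nat → Bool} :
    ∀ (m p : Nat) (w : List Nat) (s : Nat), Good L H e (rp L E p) w →
      walk E iv eps bd K m p w s = true →
      ∃ q w' s', K q w' s' = true ∧ Good L H e (rp L E q) w' := by
  intro m
  induction m with
  | zero => intro p w s hw h; exact ⟨p, pop p w, s, h, good_pop hw⟩
  | succ m ih =>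
    intro p w s hw h
    change cond (Nat.ble (Nat.add (Nat.shiftRight (Nat.land s fmask) 1) 1) bd)
        (orient iv eps (E (Nat.shiftRight (Nat.land s fmask) 1)) (Nat.land (Nat.land s fmask) 1) p w
          (fun q w' => walk E iv eps bd K m q w' (Nat.shiftRight s 24))) false = true at h
    rw [cond_false_eq_true] at h
    obtain ⟨hb, h⟩ := h
    obtain ⟨q, w', h', hg⟩ := good_orient heps hiv (hE _ (Nat.ble_eq.mp hb)) hw h
    exact ih q w' _ hg h'

theorem edgeOK_of_closes {e : G} (heps : fl L eps = 1) {v p : Nat} {w : List Nat}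
    (he : e = rp L E (ea v)) (hw : Good L H e (rp L E p) w) (h : closes eps v p w = true) :
    EdgeOK L H E v := by
  unfold closes at h
  rw [cond_false_eq_true] at h
  obtain ⟨hp, h⟩ := h
  have hp' : p = eb v := Nat.eq_of_beq_eq_true hp
  subst hp' he
  cases w with
  | nil =>
    have hx : ex v = eps := Nat.eq_of_beq_eq_true h
    unfold Good at hw
    simpa [EdgeOK, hx, heps] using hw
  | cons y t =>
    change cond (Nat.beq y (ex v)) (cond (Nat.beq y mrk) false _) false = true at h
    rw [cond_false_eq_true] at h
    obtain ⟨hy, h⟩ := h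
    cases hm : Nat.beq y mrk
    · rw [hm] at h
      cases t with
      | nil =>
        unfold Good at hw
        simp only [Nat.ne_of_beq_eq_false hm, if_false] at hw
        unfold Good at hw
        rw [Nat.eq_of_beq_eq_true hy] at hw
        exact hw
      | cons z t => simp at h
    · rw [hm] at h; simp at h

variable {R : Tr (List Nat × Nat)}

theorem edgeOK_checkSteps (heps : fl L eps = 1) (hiv : ∀ x, fl L (iv x) = (fl L x)⁻¹)
    (hR : ∀ i (e : G), Good L H e e (R.get i).1) :
    ∀ (m id s : Nat), (∀ j, j < id → EdgeOK L H E (E j)) → checkSteps E iv R eps m id s = true →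
      ∀ j, j < id + m → EdgeOK L H E (E j) := by
  intro m
  induction m with
  | zero => intro id s hE _ j hj; exact hE j hj
  | succ m ih =>
    intro id s hE h
    obtain ⟨q, w', s', hK, hg⟩ := good_walk (bd := id) heps hiv hE
      (K := fun p w t => cond (closes eps (E id) p w) (checkSteps E iv R eps m (id + 1) t) false)
      _ _ _ _ (hR (Nat.land s fmask) (rp L E (ea (E id)))) h
    rw [cond_false_eq_true] at hK
    have hid : EdgeOK L H E (E id) := edgeOK_of_closes heps rfl hg hK.1
    intro j hj
    refine ih (id + 1) s' (fun j hj => ?_) hK.2 j (by omega)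
    rcases Nat.lt_or_eq_of_le (Nat.le_of_lt_succ hj) with hj | hj
    · exact hE j hj
    · exact hj ▸ hid

theorem edgeOK_of_check (heps : fl L eps = 1) (hiv : ∀ x, fl L (iv x) = (fl L x)⁻¹)
    (hR : ∀ i (e : G), Good L H e e (R.get i).1) {d d' N nC : Nat} {C : Nat → Nat}
    (hd : checkDefs E eps d' N = true) (hc : checkChunks E iv R eps d N nC C = true) :
    ∀ j, j < N + chunk * nC → EdgeOK L H E (E j) := by
  unfold checkDefs at hd
  simp only [cond_false_eq_true] at hd
  obtain ⟨h0b, h0a, h0x, hdef⟩ := hd
  have hdef' : ∀ i, i < N → i ≠ 0 → eb (E i) < i ∧ ea (E i) = i := by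
    intro i hi hi0
    have h : cond (Nat.beq i 0) true
        (cond (Nat.ble (Nat.add (eb (E i)) 1) i) (Nat.beq (ea (E i)) i) false) = true :=
      of_allBelow hdef i hi
    have hb : Nat.beq i 0 = false := by
      cases hh : Nat.beq i 0
      · rfl
      · exact absurd (Nat.eq_of_beq_eq_true hh) hi0
    rw [hb, cond_false, cond_false_eq_true] at h
    exact ⟨Nat.ble_eq.mp h.1, Nat.eq_of_beq_eq_true h.2⟩
  have hbase : ∀ j, j < N → EdgeOK L H E (E j) := by
    intro j hj
    rcases eq_or_ne j 0 with rfl | hj0
    · simp [EdgeOK, Nat.eq_of_beq_eq_true h0b, Nat.eq_of_beq_eq_true h0a,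
        Nat.eq_of_beq_eq_true h0x, heps, rp_zero]
    · obtain ⟨hb, ha⟩ := hdef' j hj hj0
      have hr : rp L E j = rp L E (eb (E j)) * fl L (ex (E j)) := by
        obtain ⟨j', rfl⟩ : ∃ j', j = j' + 1 := ⟨j - 1, by omega⟩
        conv_lhs => simp only [rp, rpAux, Nat.succ_ne_zero, if_false]
        rw [rpAux_of_le L E (fun i hi h => (hdef' i hi h).1) _ (by omega) j' (by omega)]
      rw [EdgeOK, ha, hr]
      simp
  intro j hj
  have hall : ∀ c, c ≤ nC → ∀ j, j < N + chunk * c → EdgeOK L H E (E j) := by
    intro c
    induction c with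
    | zero => intro _ j hj; exact hbase j (by simpa using hj)
    | succ c ih =>
      intro hc' j hj
      exact edgeOK_checkSteps heps hiv hR chunk (N + chunk * c) (C c) (ih (by omega))
        (of_allBelow hc c (by omega)) j (by rw [Nat.mul_succ] at hj; omega)
  exact hall nC le_rfl j hj

end Sound

end CfsgLib.Coset
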