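import Cfsg.Prelude.Def_SporadicB
import Mathlib.GroupTheory.GroupAction.ConjAct
import Mathlib.GroupTheory.Subgroup.Center
import Mathlib.GroupTheory.Subgroup.Simple
import Cfsg.Agent.Coset.Table

/-!
A class of 3-transpositions from a permutation group: if the point stabiliser is maximal and has a
central involution `z`, the conjugates of `z` correspond to the points, and the 3-transposition
property only has to be checked on one element per orbit of the stabiliser.
-/

set_option autoImplicit false

namespace CfsgLib.Coset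

variable {G : Type*} [Group G] {n : Nat} {ρ : G →* Equiv.Perm (Fin n)}

theorem centralizer_eq_of_coatom {H : Subgroup G} (hH : IsCoatom H) {z : G}
    (hle : H ≤ Subgroup.centralizer ({z} : Set G)) {a : G} (ha : a * z ≠ z * a) :
    Subgroup.centralizer ({z} : Set G) = H := by
  rcases hH.le_iff.mp hle with h | h
  · exact absurd (Subgroup.mem_centralizer_singleton_iff.mp (h ▸ Subgroup.mem_top a : a ∈ _)) ha
  · exact h

theorem card_conjugatesOf (z : G) :
    Nat.card (conjugatesOf z) = (Subgroup.centralizer ({z} : Set G)).index := by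
  let f : G ⧸ Subgroup.centralizer ({z} : Set G) → conjugatesOf z :=
    Quotient.lift (fun g => ⟨g * z * g⁻¹, isConj_iff.mpr ⟨g, rfl⟩⟩)
      (fun a b hab => by
        have hc := Subgroup.mem_centralizer_singleton_iff.mp (QuotientGroup.leftRel_apply.mp hab)
        refine Subtype.ext ?_
        show a * z * a⁻¹ = b * z * b⁻¹
        have h2 : b * z * b⁻¹ = a * ((a⁻¹ * b) * z * (a⁻¹ * b)⁻¹) * a⁻¹ := by group
        rw [h2, hc]
        group)
  refine (Nat.card_congr (Equiv.ofBijective f ⟨?_, ?_⟩)).symm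
  · intro x y h
    induction x using QuotientGroup.induction_on with
    | _ a =>
      induction y using QuotientGroup.induction_on with
      | _ b =>
        have h' : a * z * a⁻¹ = b * z * b⁻¹ := congrArg Subtype.val h
        refine QuotientGroup.eq.mpr (Subgroup.mem_centralizer_singleton_iff.mpr ?_)
        have h2 : (a⁻¹ * b) * z = a⁻¹ * (b * z * b⁻¹) * b := by group
        rw [h2, ← h']
        group
  · rintro ⟨e, he⟩
    obtain ⟨g, rfl⟩ := isConj_iff.mp he
    exact ⟨(g : G ⧸ Subgroup.centralizer ({z} : Set G)), rfl⟩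

/-- The centraliser of a conjugate is isomorphic to the centraliser. -/
noncomputable def centralizerConj (g z : G) :
    Subgroup.centralizer ({z} : Set G) ≃* Subgroup.centralizer ({g * z * g⁻¹} : Set G) :=
  ((MulAut.conj g).subgroupMap (Subgroup.centralizer ({z} : Set G))).trans
    (MulEquiv.subgroupCongr (by
      ext x
      rw [Subgroup.mem_map]
      constructor
      · rintro ⟨y, hy, rfl⟩
        rw [Subgroup.mem_centralizer_singleton_iff] at hy ⊢
        show g * y * g⁻¹ * (g * z * g⁻¹) = g * z * g⁻¹ * (g * y * g⁻¹)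
        calc g * y * g⁻¹ * (g * z * g⁻¹) = g * (y * z) * g⁻¹ := by group
          _ = g * (z * y) * g⁻¹ := by rw [hy]
          _ = _ := by group
      · intro hx
        rw [Subgroup.mem_centralizer_singleton_iff] at hx
        refine ⟨g⁻¹ * x * g, ?_, by simp [mul_assoc]⟩
        rw [Subgroup.mem_centralizer_singleton_iff]
        calc g⁻¹ * x * g * z = g⁻¹ * (x * (g * z * g⁻¹)) * g := by group
          _ = g⁻¹ * (g * z * g⁻¹ * x) * g := by rw [hx]
          _ = _ := by group))

/-- Transport of a non-split double cover along an isomorphism. -/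
theorem nonsplitDoubleCover_congr {H H' : Type*} [Group H] [Group H'] {K : Type*} [Group K]
    (e : H ≃* H') (h : Cfsg.IsNonsplitDoubleCover H K) : Cfsg.IsNonsplitDoubleCover H' K := by
  obtain ⟨h1, ⟨f⟩, h3⟩ := h
  have hc : (Subgroup.center H).map (e : H →* H') = Subgroup.center H' := by
    ext x
    rw [Subgroup.mem_map]
    simp only [Subgroup.mem_center_iff]
    constructor
    · rintro ⟨y, hy, rfl⟩ g
      have := congrArg e (hy (e.symm g))
      simpa using this
    · intro hx
      exact ⟨e.symm x, fun g => e.injective (by simpa using hx (e g)), e.apply_symm_apply x⟩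
  refine ⟨?_, ⟨(QuotientGroup.congr _ _ e hc).symm.trans f⟩, fun L hL => ?_⟩
  · rw [← hc, Subgroup.card_map_of_injective e.injective, h1]
  · refine h3 (L.comap (e : H →* H')) (Subgroup.isComplement'_of_disjoint_and_mul_eq_univ ?_ ?_)
    · rw [disjoint_iff, eq_bot_iff]
      rintro x ⟨hx, hx'⟩
      have := hL.disjoint.le_bot ⟨hc ▸ Subgroup.mem_map_of_mem _ hx, hx'⟩
      rw [Subgroup.mem_bot] at this ⊢
      exact e.injective (this.trans (map_one e).symm)
    · refine Set.eq_univ_of_forall fun x => ?_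
      have hu := hL.mul_eq ▸ Set.mem_univ (e x)
      obtain ⟨a, ha, b, hb, hab⟩ := Set.mem_mul.mp hu
      refine Set.mem_mul.mpr ⟨e.symm a, ?_, e.symm b, ?_, e.injective (by simp [hab])⟩
      · rw [SetLike.mem_coe, ← hc, Subgroup.mem_map] at ha
        obtain ⟨y, hy, rfl⟩ := ha
        simpa using hy
      · simpa using hb

/-- The 3-transposition property from one representative per orbit of the stabiliser. -/
theorem threeTransposition_class [IsSimpleGroup G] {z : G} {β₀ : Fin n}
    (hz : orderOf z = 2) (hC : Subgroup.centralizer ({z} : Set G) = pstab ρ β₀)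
    (hreps : ∀ i : Fin n, i ≠ β₀ → ∃ g₀ h : G, h ∈ pstab ρ β₀ ∧ ρ (h * g₀) β₀ = i ∧
      ((z * (g₀ * z * g₀⁻¹)) ^ 2 = 1 ∨ (z * (g₀ * z * g₀⁻¹)) ^ 3 = 1)) :
    Cfsg.IsThreeTranspositionClass (conjugatesOf z) := by
  have hord : ∀ g : G, orderOf (g * z * g⁻¹) = 2 := fun g => by
    rw [← hz]
    exact (MulEquiv.orderOf_eq (MulAut.conj g) z)
  have hcomm : ∀ h ∈ pstab ρ β₀, h * z = z * h := fun h hh =>
    Subgroup.mem_centralizer_singleton_iff.mp (hC ▸ hh)
  have key : ∀ g : G, (z * (g * z * g⁻¹)) ^ 2 = 1 ∨ (z * (g * z * g⁻¹)) ^ 3 = 1 := by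
    intro g
    by_cases hg : ρ g β₀ = β₀
    · left
      have : g * z * g⁻¹ = z := by rw [hcomm g hg]; group
      rw [this, ← pow_two, ← pow_mul]
      exact orderOf_dvd_iff_pow_eq_one.mp (by rw [hz]; norm_num)
    obtain ⟨g₀, h, hh, he, hp⟩ := hreps _ hg
    have hm : (h * g₀)⁻¹ * g ∈ pstab ρ β₀ := by
      rw [mem_pstab, map_mul, Equiv.Perm.mul_apply, map_inv, Equiv.Perm.inv_def,
        Equiv.symm_apply_eq, he]
    have hge : g * z * g⁻¹ = h * (g₀ * z * g₀⁻¹) * h⁻¹ := by
      have h1 := hcomm _ hm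
      calc g * z * g⁻¹ = (h * g₀) * (((h * g₀)⁻¹ * g) * z) * g⁻¹ := by group
        _ = (h * g₀) * (z * ((h * g₀)⁻¹ * g)) * g⁻¹ := by rw [h1]
        _ = _ := by group
    have hzh : z = h * z * h⁻¹ := by rw [hcomm h hh]; group
    have hprod : z * (g * z * g⁻¹) = h * (z * (g₀ * z * g₀⁻¹)) * h⁻¹ := by
      rw [hge]
      nth_rw 1 [hzh]
      group
    rw [hprod, conj_pow, conj_pow]
    rcases hp with hp | hp <;> simp [hp]
  refine ⟨⟨?_, ?_⟩, ⟨z, mem_conjugatesOf_self, rfl⟩, ?_⟩
  · intro d hd
    obtain ⟨g, rfl⟩ := isConj_iff.mp hd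
    exact hord g
  · intro d hd e he
    obtain ⟨g, rfl⟩ := isConj_iff.mp hd
    obtain ⟨g', rfl⟩ := isConj_iff.mp he
    have : g * z * g⁻¹ * (g' * z * g'⁻¹) = g * (z * ((g⁻¹ * g') * z * (g⁻¹ * g')⁻¹)) * g⁻¹ := by
      group
    rw [this, conj_pow, conj_pow]
    rcases key (g⁻¹ * g') with hp | hp
    · left; rw [hp, mul_one, mul_inv_cancel]
    · right; rw [hp, mul_one, mul_inv_cancel]
  · have hnc : Subgroup.normalClosure ({z} : Set G) = ⊤ := by
      refine (IsSimpleGroup.eq_bot_or_eq_top_of_normal _ inferInstance).resolve_left fun h => ?_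
      have : z ∈ Subgroup.normalClosure ({z} : Set G) := Subgroup.subset_normalClosure rfl
      rw [h, Subgroup.mem_bot] at this
      rw [this, orderOf_one] at hz
      norm_num at hz
    rw [← hnc, Subgroup.normalClosure, Group.conjugatesOfSet, Set.biUnion_singleton]

end CfsgLib.Coset
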