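import Cfsg.Agent.Coset.Blocks
import Mathlib.Algebra.Group.Basic

/-!
Cheaper certificates for relators which are powers: a relator `(x y) ^ m` of two involutions is
checked only at points not moved below themselves, a relator `v ^ m` only at one point of each
cycle of `v`, the other points carrying their distance to it.
-/

set_option autoImplicit false

namespace CfsgLib.Coset

/-- The word `v ^ m`. -/
def powWord (p : List Nat × Nat) : List Nat := (List.replicate p.2 p.1).flatten

/-- The word `(x y) ^ m`. -/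
def pairWord (p : Nat × Nat × Nat) : List Nat := powWord ([p.1, p.2.1], p.2.2)

section Kernel

/-- The pair relators at one point. -/
noncomputable def pairsAt (Tb : Nat → Nat) (ps : List (Nat × Nat × Nat)) (i : Nat) : Bool :=
  allList (fun p => cond (Nat.ble (Nat.add (tget Tb i p.1) 1) i) true
    (cond (Nat.ble (Nat.add (tget Tb i p.2.1) 1) i) true
      (Nat.beq (follow (tget Tb) i (pairWord p)) i))) ps

/-- A power relator at one point; `K` is the distance to the representative of the cycle. -/
noncomputable def powAt (Tb : Nat → Nat) (v w : List Nat) (K : Nat → Nat) (i : Nat) : Bool :=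
  cond (Nat.beq (field (K i) 0) 0) (Nat.beq (follow (tget Tb) i w) i)
    (Nat.beq (Nat.add (field (K (follow (tget Tb) i v)) 0) 1) (field (K i) 0))

end Kernel

variable {n k dn dk : Nat} {Tb : Nat → Nat}

theorem sig_mul_self (hp : checkPerm id n k dn dk Tb = true) (x : Nat) :
    sig hp x * sig hp x = 1 := by
  rcases lt_or_ge x k with hx | hx
  · refine eq_inv_iff_mul_eq_one.mp (Equiv.ext fun i => Fin.ext ?_)
    rw [sig_symm_apply hp hx]
    simp [sig, hx]
  · simp [sig, show ¬ x < k by omega]

theorem ev_flatten_replicate {G : Type*} [Group G] (L : List G) (v : List Nat) :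
    ∀ m : Nat, ev L (List.replicate m v).flatten = ev L v ^ m := by
  intro m
  induction m with
  | zero => simp
  | succ m ih => rw [List.replicate_succ, List.flatten_cons, ev_append, ih, pow_succ']

theorem mem_pairWord {p : Nat × Nat × Nat} {l : Nat} (hl : l ∈ pairWord p) :
    l = p.1 ∨ l = p.2.1 := by
  obtain ⟨u, hu, hlu⟩ := List.mem_flatten.mp hl
  rw [List.eq_of_mem_replicate hu] at hlu
  simpa using hlu

theorem ev_pairWord_eq_one (hp : checkPerm id n k dn dk Tb = true) {ps : List (Nat × Nat × Nat)}
    {d : Nat} (hc : allBelow d n (pairsAt Tb ps) = true)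
    (hlt : (ps.all fun p => decide (p.1 < k) && decide (p.2.1 < k)) = true) :
    ∀ p ∈ ps, ev (sigList hp) (pairWord p) = 1 := by
  rintro ⟨x, y, m⟩ hmem
  have hxy := List.all_eq_true.mp hlt _ hmem
  simp only [Bool.and_eq_true, decide_eq_true_eq] at hxy
  obtain ⟨hx, hy⟩ := hxy
  set a := sig hp x
  set b := sig hp y
  have ha : a⁻¹ = a := inv_eq_of_mul_eq_one_right (sig_mul_self hp x)
  have hb : b⁻¹ = b := inv_eq_of_mul_eq_one_right (sig_mul_self hp y)
  have hev : ev (sigList hp) (pairWord (x, y, m)) = (a * b) ^ m := by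
    rw [pairWord, powWord, ev_flatten_replicate, ev_cons, ev_cons, ev_nil, mul_one, fl_sigList,
      fl_sigList]
  have hl : ∀ l ∈ pairWord (x, y, m), l < k := fun l hl => by
    rcases mem_pairWord hl with rfl | rfl <;> assumption
  have hia : a * (a * b) ^ m = ((a * b) ^ m)⁻¹ * a := by
    rw [← inv_pow, mul_inv_rev, ha, hb]
    exact (SemiconjBy.pow_right (show SemiconjBy a (a * b) (b * a) by
      show a * (a * b) = b * a * a; rw [← mul_assoc, sig_mul_self hp x, one_mul, mul_assoc, sig_mul_self hp x, mul_one]) m)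
  have hib : b * (a * b) ^ m = ((a * b) ^ m)⁻¹ * b := by
    rw [← inv_pow, mul_inv_rev, ha, hb]
    exact (SemiconjBy.pow_right (show SemiconjBy b (a * b) (b * a) by
      show b * (a * b) = b * a * b; rw [mul_assoc]) m)
  suffices h : ∀ i : Nat, ∀ hi : i < n, ((a * b) ^ m) ⟨i, hi⟩ = ⟨i, hi⟩ by
    rw [hev]; exact Equiv.ext fun i => h i i.2
  intro i
  induction i using Nat.strong_induction_on with
  | _ i ih =>
    intro hi
    have hstep : ∀ (z : Nat) (c : Equiv.Perm (Fin n)), z < k → c = sig hp z →
        c * (a * b) ^ m = ((a * b) ^ m)⁻¹ * c → tget Tb i z < i →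
        ((a * b) ^ m) ⟨i, hi⟩ = ⟨i, hi⟩ := by
      intro z c hz hcz hc hlt'
      have hc' : c⁻¹ = c := hcz ▸ inv_eq_of_mul_eq_one_right (sig_mul_self hp z)
      have hv : ((c ⟨i, hi⟩ : Fin n) : Nat) = tget Tb i z := by
        conv_lhs => rw [← hc', hcz, sig_symm_apply hp hz]
      have hj := ih _ (hv ▸ hlt') (c ⟨i, hi⟩).2
      have h := congrArg (fun e : Equiv.Perm (Fin n) => e ⟨i, hi⟩) hc
      simp only [Equiv.Perm.mul_apply] at h
      have h2 : ((a * b) ^ m)⁻¹ (c ⟨i, hi⟩) = c ⟨i, hi⟩ := by
        rw [Equiv.Perm.inv_def, Equiv.symm_apply_eq]; exact hj.symm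
      exact c.injective (h.trans h2)
    have h : pairsAt Tb ps i = true := of_allBelow hc i hi
    have h := allList_iff.mp h _ hmem
    cases h1 : Nat.ble (Nat.add (tget Tb i x) 1) i
    · cases h2 : Nat.ble (Nat.add (tget Tb i y) 1) i
      · simp only [h1, h2, cond_false] at h
        have := ev_sigList_inv_apply hp (pairWord (x, y, m)) ⟨i, hi⟩ hl
        rw [Nat.eq_of_beq_eq_true h, hev] at this
        have h3 := Fin.ext (b := ⟨i, hi⟩) this
        rw [Equiv.Perm.inv_def, Equiv.symm_apply_eq] at h3
        exact h3.symm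
      · exact hstep y b hy rfl hib (Nat.ble_eq.mp h2)
    · exact hstep x a hx rfl hia (Nat.ble_eq.mp h1)

theorem ev_powWord_eq_one (hp : checkPerm id n k dn dk Tb = true) {v : List Nat} {m d : Nat}
    {K : Nat → Nat} (hc : allBelow d n (powAt Tb v (powWord (v, m)) K) = true)
    (hv : ∀ l ∈ v, l < k) : ev (sigList hp) (powWord (v, m)) = 1 := by
  set σ := ev (sigList hp) v
  have hev : ev (sigList hp) (powWord (v, m)) = σ ^ m := ev_flatten_replicate _ v m
  have hl : ∀ l ∈ powWord (v, m), l < k := fun l hl => by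
    obtain ⟨u, hu, hlu⟩ := List.mem_flatten.mp hl
    rw [List.eq_of_mem_replicate hu] at hlu
    exact hv l hlu
  suffices h : ∀ (r : Nat) (i : Fin n), field (K i) 0 = r → (σ ^ m) i = i by
    rw [hev]; exact Equiv.ext fun i => h _ i rfl
  intro r
  induction r using Nat.strong_induction_on with
  | _ r ih =>
    intro i hr
    have h : cond _ _ _ = true := of_allBelow hc i i.2
    cases h0 : Nat.beq (field (K i) 0) 0
    · simp only [h0, cond_false] at h
      have he : field (K (follow (tget Tb) i v)) 0 + 1 = r := (Nat.eq_of_beq_eq_true h).trans hr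
      rw [← ev_sigList_inv_apply hp v i hv] at he
      change field (K ((σ⁻¹ i : Fin n) : Nat)) 0 + 1 = r at he
      have hj := ih _ (by omega) (σ⁻¹ i) rfl
      have hcm : σ ^ m * σ⁻¹ = σ⁻¹ * σ ^ m := ((Commute.refl σ).pow_left m).inv_right.eq
      have h5 := congrArg (fun e : Equiv.Perm (Fin n) => e i) hcm
      simp only [Equiv.Perm.mul_apply, hj] at h5
      exact ((σ⁻¹).injective h5).symm
    · simp only [h0, cond_true] at h
      have := ev_sigList_inv_apply hp (powWord (v, m)) i hl
      rw [Nat.eq_of_beq_eq_true h, hev] at this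
      have h3 := Fin.ext (b := i) this
      rw [Equiv.Perm.inv_def, Equiv.symm_apply_eq] at h3
      exact h3.symm

end CfsgLib.Coset
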