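import Cfsg.Agent.Coset.Table
import Mathlib.Data.Fintype.Perm
import Mathlib.GroupTheory.OrderOfElement

/-!
Orbit certificates: lower bounds for group orders along a base, and exact orbits of subgroups.
-/

set_option autoImplicit false

namespace CfsgLib.Coset

open scoped Pointwise

section Kernel

/-- The `j`-th point of an orbit list. -/
noncomputable def opt (P : Nat → Nat) (j : Nat) : Nat := field (P j) 0

/-- `m` distinct points reached from `β` by the listed words. -/
noncomputable def checkOrbit (Tb : Nat → Nat) (β m dm : Nat) (gens : List (List Nat))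
    (P Inv : Nat → Nat) : Bool :=
  cond (Nat.beq (opt P 0) β)
    (allBelow dm m fun j => cond (Nat.beq (field (Inv (opt P j)) 0) j)
      (cond (Nat.beq j 0) true
        (cond (Nat.ble (Nat.add (field (P j) 1) 1) j)
          (Nat.beq (follow (tget Tb) (opt P (field (P j) 1)) (gens.getD (field (P j) 2) [])) (opt P j))
          false))
      false) false

/-- The listed points are closed under the words. -/
noncomputable def checkClosed (Tb : Nat → Nat) (m dm : Nat) (gens : List (List Nat))
    (P Inv : Nat → Nat) : Bool :=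
  allBelow dm m fun j => allList (fun g =>
    cond (Nat.ble (Nat.add (field (Inv (follow (tget Tb) (opt P j) g)) 0) 1) m)
      (Nat.beq (opt P (field (Inv (follow (tget Tb) (opt P j) g)) 0)) (follow (tget Tb) (opt P j) g))
      false) gens

/-- The words fix the listed base points. -/
noncomputable def checkFix (Tb : Nat → Nat) (base : List Nat) (gens : List (List Nat)) : Bool :=
  allList (fun g => allList (fun b => Nat.beq (follow (tget Tb) b g) b) base) gens

/-- All letters are in range. -/
noncomputable def checkLetters (k : Nat) (gens : List (List Nat)) : Bool :=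
  allList (allList (fun x => Nat.ble (Nat.add x 1) k)) gens

end Kernel

variable {G : Type*} [Group G] {L : List G} {n : Nat} {Tb : Nat → Nat}
  {ρ : G →* Equiv.Perm (Fin n)}

theorem letters_lt {k : Nat} {gens : List (List Nat)} (h : checkLetters k gens = true) :
    ∀ w ∈ gens, ∀ l ∈ w, l < k := fun w hw l hl =>
  Nat.ble_eq.mp (allList_iff.mp (allList_iff.mp h w hw) l hl)

theorem letters_getD {k : Nat} {gens : List (List Nat)} (h : checkLetters k gens = true) (i : Nat) :
    ∀ l ∈ gens.getD i [], l < k := by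
  rcases lt_or_ge i gens.length with hi | hi
  · rw [List.getD_eq_getElem _ _ hi]; exact letters_lt h _ (List.getElem_mem hi)
  · rw [List.getD_eq_default _ _ hi]; simp

/-- The orbit of a point under the image of a subgroup. -/
def orb (ρ : G →* Equiv.Perm (Fin n)) (S : Subgroup G) (i : Fin n) : Set (Fin n) :=
  {j | ∃ g ∈ S, ρ g i = j}

theorem self_mem_orb (S : Subgroup G) (i : Fin n) : i ∈ orb ρ S i := ⟨1, S.one_mem, by simp⟩

/-- `card (orbit) * card (stabiliser) = card S`. -/
theorem card_orb_mul (S : Subgroup G) (i : Fin n) :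
    (orb ρ S i).ncard * Nat.card (S ⊓ pstab ρ i : Subgroup G) = Nat.card S := by
  let f : S ⧸ (pstab ρ i).subgroupOf S → Fin n :=
    Quotient.lift (fun g : S => ρ (g : G) i) (fun a b hab => by
      have h0 : a⁻¹ * b ∈ (pstab ρ i).subgroupOf S := QuotientGroup.leftRel_apply.mp hab
      have hab' : ((a⁻¹ * b : S) : G) ∈ pstab ρ i := Subgroup.mem_subgroupOf.mp h0
      rw [mem_pstab, Subgroup.coe_mul, Subgroup.coe_inv, map_mul, map_inv, Equiv.Perm.mul_apply,
        Equiv.Perm.inv_def, Equiv.symm_apply_eq] at hab'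
      exact hab'.symm)
  have hf : Function.Injective f := by
    intro a b
    induction a using QuotientGroup.induction_on
    induction b using QuotientGroup.induction_on
    rename_i a b
    intro h
    refine QuotientGroup.eq.mpr ?_
    change ((a⁻¹ * b : S) : G) ∈ pstab ρ i
    rw [mem_pstab, Subgroup.coe_mul, Subgroup.coe_inv, map_mul, map_inv, Equiv.Perm.mul_apply,
      Equiv.Perm.inv_def, Equiv.symm_apply_eq]
    exact h.symm
  have hr : Set.range f = orb ρ S i := by
    ext j
    constructor
    · rintro ⟨q, rfl⟩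
      induction q using QuotientGroup.induction_on with
      | _ g => exact ⟨g, g.2, rfl⟩
    · rintro ⟨g, hg, rfl⟩; exact ⟨QuotientGroup.mk ⟨g, hg⟩, rfl⟩
  have h1 : (orb ρ S i).ncard = ((pstab ρ i).subgroupOf S).index := by
    rw [← hr, ← Nat.card_coe_set_eq, Nat.card_range_of_injective hf]; rfl
  have e : (pstab ρ i).subgroupOf S = (S ⊓ pstab ρ i).subgroupOf S := by
    ext x; simp [Subgroup.mem_subgroupOf]
  rw [h1, e, ← Nat.card_congr (Subgroup.subgroupOfEquivOfLe (inf_le_left : S ⊓ pstab ρ i ≤ S)).toEquiv,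
    mul_comm, Subgroup.card_mul_index]

theorem orb_mapsTo {S : Subgroup G} (i : Fin n) {g : G} (hg : g ∈ S) :
    Set.MapsTo (ρ g) (orb ρ S i) (orb ρ S i) := by
  rintro j ⟨h, hh, rfl⟩
  exact ⟨g * h, S.mul_mem hg hh, by simp⟩

theorem Matches.mem_pstab_iff (hm : Matches L ρ Tb) {w : List Nat} (i : Fin n)
    (hl : ∀ l ∈ w, l < L.length) : ev L w ∈ pstab ρ i ↔ follow (tget Tb) i w = i :=
  hm.fix_iff hl

theorem Matches.orbit_le (hm : Matches L ρ Tb) {β : Fin n} {m dm : Nat} {gens : List (List Nat)}
    {P Inv : Nat → Nat} (hc : checkOrbit Tb β m dm gens P Inv = true)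
    (hl : checkLetters L.length gens = true) {S : Subgroup G}
    (hS : ∀ w ∈ gens, ev L w ∈ S) :
    m ≤ (orb ρ S β).ncard ∧ ∀ j < m, ∃ x ∈ orb ρ S β, (x : Nat) = opt P j := by
  unfold checkOrbit at hc
  rw [cond_false_eq_true] at hc
  have hS' : ∀ i, ev L (gens.getD i []) ∈ S := fun i => by
    rcases lt_or_ge i gens.length with hi | hi
    · rw [List.getD_eq_getElem _ _ hi]; exact hS _ (List.getElem_mem hi)
    · rw [List.getD_eq_default _ _ hi]; exact S.one_mem
  have hpts : ∀ j < m, ∃ x ∈ orb ρ S β, (x : Nat) = opt P j := by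
    intro j
    induction j using Nat.strong_induction_on with
    | _ j ih =>
      intro hj
      have h := of_allBelow hc.2 j hj
      rw [cond_false_eq_true] at h
      rcases Nat.eq_zero_or_pos j with rfl | h0
      · exact ⟨β, self_mem_orb S β, (Nat.eq_of_beq_eq_true hc.1).symm⟩
      · have hb : Nat.beq j 0 = false := by
          cases hh : Nat.beq j 0
          · rfl
          · exact absurd (Nat.eq_of_beq_eq_true hh) (by omega)
        have h2 := h.2
        rw [hb, cond_false, cond_false_eq_true] at h2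
        have hlt : field (P j) 1 < j := Nat.ble_eq.mp h2.1
        obtain ⟨x, hx, hxe⟩ := ih _ hlt (by omega)
        refine ⟨(ρ (ev L (gens.getD (field (P j) 2) [])))⁻¹ x, ?_, ?_⟩
        · rw [← map_inv]; exact orb_mapsTo β (S.inv_mem (hS' _)) hx
        · rw [hm.follow_eq _ _ (letters_getD hl _), hxe, Nat.eq_of_beq_eq_true h2.2]
  refine ⟨?_, hpts⟩
  choose x hx hxe using hpts
  have : Function.Injective (fun j : Fin m => (⟨x j j.2, hx j j.2⟩ : orb ρ S β)) := by
    intro a b hab
    have h1 : (x a a.2 : Nat) = x b b.2 := congrArg (fun y : orb ρ S β => ((y : Fin n) : Nat)) hab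
    rw [hxe, hxe] at h1
    have ha := Nat.eq_of_beq_eq_true (cond_false_eq_true.mp (of_allBelow hc.2 a a.2)).1
    have hb := Nat.eq_of_beq_eq_true (cond_false_eq_true.mp (of_allBelow hc.2 b b.2)).1
    rw [h1] at ha
    exact Fin.ext (ha.symm.trans hb)
  simpa [Nat.card_coe_set_eq] using Nat.card_le_card_of_injective _ this

theorem Matches.orbit_subset (hm : Matches L ρ Tb) {β : Fin n} {m dm : Nat} {gens : List (List Nat)}
    {P Inv : Nat → Nat} (hc : checkOrbit Tb β m dm gens P Inv = true)
    (hcl : checkClosed Tb m dm gens P Inv = true) (hl : checkLetters L.length gens = true)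
    (hm0 : 0 < m) :
    orb ρ (Subgroup.closure (ev L '' {w | w ∈ gens})) β ⊆ {i : Fin n | ∃ j < m, opt P j = i} := by
  set S := Subgroup.closure (ev L '' {w | w ∈ gens}) with hS
  let T : Set (Fin n) := {i | ∃ j < m, opt P j = i}
  have hT : ∀ g ∈ S, ρ g '' T = T := by
    intro g hg
    induction hg using Subgroup.closure_induction with
    | mem x hx =>
      obtain ⟨w, hw, rfl⟩ := hx
      have hsub : ⇑(ρ (ev L w))⁻¹ '' T ⊆ T := by
        rintro _ ⟨i, ⟨j, hj, hji⟩, rfl⟩
        have h := allList_iff.mp (of_allBelow hcl j hj) w hw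
        rw [cond_false_eq_true] at h
        refine ⟨_, Nat.ble_eq.mp h.1, ?_⟩
        rw [Nat.eq_of_beq_eq_true h.2, hm.follow_eq w i (letters_lt hl w hw), hji]
      have he : ⇑(ρ (ev L w))⁻¹ '' T = T := Set.eq_of_subset_of_ncard_le hsub
        (by rw [Set.ncard_image_of_injective _ (Equiv.injective _)]) (Set.toFinite _)
      conv_lhs => rw [← he]
      rw [← Set.image_comp]
      ext y; simp
    | one => simp
    | mul x y _ _ hx hy => rw [map_mul, Equiv.Perm.coe_mul, Set.image_comp, hy, hx]
    | inv x _ hx =>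
      conv_lhs => rw [← hx]
      rw [← Set.image_comp, map_inv]
      ext y; simp
  have hβ : β ∈ T := ⟨0, hm0, Nat.eq_of_beq_eq_true (cond_false_eq_true.mp hc).1⟩
  have hsubT : orb ρ S β ⊆ T := by
    rintro i ⟨g, hg, rfl⟩; rw [← hT g hg]; exact ⟨β, hβ, rfl⟩
  exact hsubT

theorem Matches.orbit_eq (hm : Matches L ρ Tb) {β : Fin n} {m dm : Nat} {gens : List (List Nat)}
    {P Inv : Nat → Nat} (hc : checkOrbit Tb β m dm gens P Inv = true)
    (hcl : checkClosed Tb m dm gens P Inv = true) (hl : checkLetters L.length gens = true)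
    (hm0 : 0 < m) :
    (orb ρ (Subgroup.closure (ev L '' {w | w ∈ gens})) β).ncard = m := by
  set S := Subgroup.closure (ev L '' {w | w ∈ gens}) with hS
  obtain ⟨hle, hpts⟩ := hm.orbit_le hc hl (S := S) (fun w hw => Subgroup.subset_closure ⟨w, hw, rfl⟩)
  refine le_antisymm ?_ hle
  let T : Set (Fin n) := {i | ∃ j < m, opt P j = i}
  have hsubT : orb ρ S β ⊆ T := hm.orbit_subset hc hcl hl hm0
  refine (Set.ncard_le_ncard hsubT (Set.toFinite _)).trans ?_
  have hT2 : ∀ t : T, ∃ j : Fin m, opt P j = (t : Fin n) := by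
    rintro ⟨t, j, hj, hjt⟩; exact ⟨⟨j, hj⟩, hjt⟩
  choose j hj using hT2
  have hinj : Function.Injective j := fun a b hab =>
    Subtype.ext (Fin.ext (by rw [← hj, ← hj, hab]))
  have := Nat.card_le_card_of_injective j hinj
  rwa [Nat.card_coe_set_eq, Nat.card_fin] at this

theorem Matches.card_step (hm : Matches L ρ Tb) {β : Fin n} {m dm : Nat} {gens : List (List Nat)}
    {P Inv : Nat → Nat} (hc : checkOrbit Tb β m dm gens P Inv = true)
    (hl : checkLetters L.length gens = true) {S : Subgroup G} (hS : ∀ w ∈ gens, ev L w ∈ S)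
    {M : Nat} (hM : M ≤ Nat.card (S ⊓ pstab ρ β : Subgroup G)) : m * M ≤ Nat.card S := by
  rw [← card_orb_mul S β]
  exact Nat.mul_le_mul (hm.orbit_le hc hl hS).1 hM

/-- Intersection of point stabilisers. -/
def baseStab (ρ : G →* Equiv.Perm (Fin n)) (base : List (Fin n)) : Subgroup G :=
  base.foldl (fun S b => S ⊓ pstab ρ b) ⊤

theorem mem_foldl_inf {g : G} : ∀ (base : List (Fin n)) (S : Subgroup G),
    g ∈ base.foldl (fun S b => S ⊓ pstab ρ b) S ↔ g ∈ S ∧ ∀ b ∈ base, g ∈ pstab ρ b := by
  intro base
  induction base with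
  | nil => intro S; simp
  | cons b t ih => intro S; rw [List.foldl_cons, ih]; simp [and_assoc]

theorem baseStab_snoc (base : List (Fin n)) (b : Fin n) :
    baseStab ρ (base ++ [b]) = baseStab ρ base ⊓ pstab ρ b := by
  simp [baseStab, List.foldl_append]

theorem Matches.ev_mem_baseStab (hm : Matches L ρ Tb) {base : List (Fin n)}
    {gens : List (List Nat)} (hl : checkLetters L.length gens = true)
    (hf : checkFix Tb (base.map Fin.val) gens = true) : ∀ w ∈ gens, ev L w ∈ baseStab ρ base := by
  intro w hw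
  refine (mem_foldl_inf base ⊤).mpr ⟨trivial, fun b hb => ?_⟩
  rw [hm.mem_pstab_iff b (letters_lt hl w hw)]
  exact Nat.eq_of_beq_eq_true (allList_iff.mp (allList_iff.mp hf w hw) _ (List.mem_map.mpr ⟨b, hb, rfl⟩))

end CfsgLib.Coset
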