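import Cfsg.Agent.Coset.Chain
import Cfsg.Agent.Coset.Simple

/-!
Maximality of a point stabiliser: adjoining to it an element moving the point to any other one
gives a transitive group.
-/

set_option autoImplicit false

namespace CfsgLib.Coset

variable {G : Type*} [Group G] {L : List G} {n : Nat} {Tb : Nat → Nat}
  {ρ : G →* Equiv.Perm (Fin n)}

/-- Certified orbits and, for each orbit, a certified transitive extension. -/
theorem pstab_isCoatom_of_jumps (hm : Matches L ρ Tb) (hn : 1 < n) {dn dm : Nat}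
    {ws : List (List Nat)} {cs : List OrbitCert} (hc : checkOrbits Tb dn ws cs = true)
    (hl : checkLetters L.length ws = true) (hcov : checkCover n dn cs = true)
    (hle : genW L ws ≤ pstab ρ ⟨0, by omega⟩) (hpt : ∀ c ∈ cs, c.pt < n)
    {J : List (Nat × List Nat × (Nat → Nat) × (Nat → Nat))}
    (hJ : ∀ c ∈ cs, ∃ j ∈ J, j.1 = c.pt)
    (hw : ∀ j ∈ J, checkLetters L.length [j.2.1] = true ∧ follow (tget Tb) 0 j.2.1 = j.1 ∧
      checkOrbit Tb 0 n dm (ws ++ [j.2.1]) j.2.2.1 j.2.2.2 = true) :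
    IsCoatom (pstab ρ ⟨0, by omega⟩) := by
  set z : Fin n := ⟨0, by omega⟩
  refine ⟨fun htop => ?_, fun K hK => ?_⟩
  · obtain ⟨c, hmem, -⟩ := orbits_cover hm hc hl hcov ⟨1, hn⟩ Nat.one_ne_zero
    obtain ⟨j, hj, hjc⟩ := hJ c hmem
    obtain ⟨hl', hf, hO⟩ := hw j hj
    have h := (hm.mem_pstab_iff (w := j.2.1) z (letters_lt hl' _ (by simp))).mp
      (htop ▸ Subgroup.mem_top _)
    have hall : ∀ w ∈ ws ++ [j.2.1], ev L w ∈ pstab ρ z := fun w _ => htop ▸ Subgroup.mem_top _
    have hle' := (hm.orbit_le (β := z) hO (by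
      unfold checkLetters at hl hl' ⊢
      rw [allList_iff] at hl hl' ⊢
      intro w hw'; rcases List.mem_append.mp hw' with h | h
      · exact hl w h
      · exact hl' w h) hall).1
    have h1 : orb ρ (pstab ρ z) z ⊆ {z} := by rintro x ⟨g, hg, rfl⟩; exact mem_pstab.mp hg
    have := hle'.trans ((Set.ncard_le_ncard h1).trans (Set.ncard_singleton z).le)
    omega
  · obtain ⟨k, hk, hkn⟩ := SetLike.exists_of_lt hK
    obtain ⟨c, hmem, hx⟩ := orbits_cover hm hc hl hcov (ρ k z)
      (fun h => hkn (mem_pstab.mpr (Fin.ext h)))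
    obtain ⟨h, hh, hhe⟩ := hx ⟨c.pt, hpt c hmem⟩ rfl
    obtain ⟨j, hj, hjc⟩ := hJ c hmem
    obtain ⟨hl', hf, hO⟩ := hw j hj
    have hgS : ev L j.2.1 * (h⁻¹ * k) ∈ pstab ρ z := by
      rw [mem_pstab, map_mul, map_mul, Equiv.Perm.mul_apply, Equiv.Perm.mul_apply, ← hhe, map_inv,
        Equiv.Perm.inv_def, Equiv.symm_apply_apply]
      have he := hm.follow_eq j.2.1 z (letters_lt hl' _ (by simp))
      have : ((ρ (ev L j.2.1))⁻¹ z : Fin n) = ⟨c.pt, hpt c hmem⟩ :=
        Fin.ext (he.trans (hf.trans hjc))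
      rw [← this]; simp
    have hgK : ev L j.2.1 ∈ K := by
      have := K.mul_mem (hK.le hgS) (K.inv_mem (K.mul_mem (K.inv_mem (hK.le (hle hh))) hk))
      rwa [mul_inv_cancel_right] at this
    have hall : ∀ w ∈ ws ++ [j.2.1], ev L w ∈ K := by
      intro w hw'
      rcases List.mem_append.mp hw' with h | h
      · exact hK.le (hle (ev_mem_genW h))
      · rw [List.mem_singleton.mp h]; exact hgK
    have hle' := (hm.orbit_le (β := z) hO (by
      unfold checkLetters at hl hl' ⊢
      rw [allList_iff] at hl hl' ⊢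
      intro w hw'; rcases List.mem_append.mp hw' with h | h
      · exact hl w h
      · exact hl' w h) hall).1
    have hu : orb ρ K z = Set.univ :=
      Set.eq_of_subset_of_ncard_le (Set.subset_univ _) (by simpa [Set.ncard_univ] using hle')
        (Set.toFinite _)
    rw [eq_top_iff]
    intro g _
    obtain ⟨g', hg', he⟩ : ρ g z ∈ orb ρ K z := hu ▸ Set.mem_univ _
    have : g'⁻¹ * g ∈ pstab ρ z := by
      rw [mem_pstab, map_mul, map_inv, Equiv.Perm.mul_apply, ← he]; simp
    simpa using K.mul_mem hg' (hK.le this)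

end CfsgLib.Coset
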