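import Cfsg.Agent.Coset.Chain
import Mathlib.Data.Fintype.BigOperators

/-!
Sifting along a base with explicit transversal words.

A certificate gives, for each level `i < k`, a base point `B i`, a list of `m i` words (packed as
numbers) fixing the earlier base points, and the position of the image of `B i` under each of
them.  When the product of the `m i` is the order of the group, every element is uniquely a product
of transversal words, so it is determined by the images of the base, and a sweep over candidate
images finds all elements satisfying a given condition.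
-/

set_option autoImplicit false

namespace CfsgLib.Coset

/-- Data of a base with transversals. -/
structure SiftData where
  /-- the number of levels -/
  k : Nat
  /-- the sizes of the transversals -/
  m : Nat → Nat
  /-- the base points -/
  B : Nat → Nat
  /-- the transversal words, packed with `bits` bits per letter -/
  W : Nat → Nat → Nat
  /-- the position of a point among the images of the base point -/
  I : Nat → Nat → Nat
  /-- the letter of the inverse of a generator -/
  iv : Nat → Nat

section Kernel

/-- Apply a function to an evaluated number. -/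
noncomputable def force {α : Type} (x : Nat) (f : Nat → α) : α :=
  Nat.rec (motive := fun _ => α) (f 0) (fun p _ => f (Nat.succ p)) x

/-- Unpack a word: octal digits `letter + 1`, least significant first. -/
noncomputable def unpack (fuel e : Nat) : List Nat :=
  Nat.rec (motive := fun _ => Nat → List Nat) (fun _ => [])
    (fun _ ih e => force e fun v =>
      cond (Nat.beq v 0) [] (Nat.sub (Nat.land v 7) 1 :: ih (Nat.shiftRight v 3))) fuel e

/-- The formal inverse of a word. -/
noncomputable def invWd (iv : Nat → Nat) (w : List Nat) : List Nat :=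
  List.rec (motive := fun _ => List Nat) [] (fun l _ ih => ih ++ [iv l]) w

/-- Follow the inverse of a word. -/
noncomputable def followI (t : Nat → Nat → Nat) (iv : Nat → Nat) (i : Nat) (w : List Nat) : Nat :=
  List.rec (motive := fun _ => Nat) i (fun l _ ih => force ih fun p => t p (iv l)) w

/-- Follow a word, evaluating after each letter. -/
noncomputable def followF (t : Nat → Nat → Nat) (i : Nat) (w : List Nat) : Nat :=
  List.rec (motive := fun _ => Nat → Nat) (fun i => i) (fun l _ ih i => force (t i l) ih) w i

/-- A transversal word. -/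
noncomputable def SiftData.wd (S : SiftData) (i j : Nat) : List Nat := unpack 128 (S.W i j)

/-- The product of transversal words below level `i`, deepest first. -/
noncomputable def SiftData.elw (S : SiftData) (i : Nat) (j : Nat → Nat) : List Nat :=
  Nat.rec (motive := fun _ => List Nat) [] (fun i ih => S.wd i (j i) ++ ih) i

/-- One level is as claimed. -/
noncomputable def SiftData.checkLev (S : SiftData) (Tb : Nat → Nat) (n k d i : Nat) : Bool :=
  cond (Nat.ble (Nat.add (S.B i) 1) n)
    (allBelow d (S.m i) fun j =>
      cond (checkLetters k [S.wd i j])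
        (cond (allBelow 3 i fun h => Nat.beq (follow (tget Tb) (S.B h) (S.wd i j)) (S.B h))
          (Nat.beq (S.I i (follow (tget Tb) (S.B i) (S.wd i j))) j) false) false) false

/-- The word of the element with the given images of the base, if any. -/
noncomputable def SiftData.sift (S : SiftData) (Tb : Nat → Nat) (img : Nat → Nat) (i : Nat) :
    Option (List Nat) :=
  Nat.rec (motive := fun _ => Option (List Nat)) (some [])
    (fun i prev => Option.rec none (fun acc =>
      force (followI (tget Tb) S.iv (img i) acc) fun p => force (S.I i p) fun j =>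
        cond (Nat.ble (Nat.add j 1) (S.m i)) (some (S.wd i j ++ acc)) none) prev) i

/-- A test on the element with the given images of the base; passes when there is none. -/
noncomputable def SiftData.siftAll (S : SiftData) (Tb : Nat → Nat) (img : Nat → Nat)
    (p : List Nat → Bool) : Bool :=
  Option.rec true p (S.sift Tb img S.k)

/-- Two words agree on the base. -/
noncomputable def SiftData.eqB (S : SiftData) (Tb : Nat → Nat) (u w : List Nat) : Bool :=
  allBelow 3 S.k fun i => Nat.beq (followF (tget Tb) (S.B i) u) (followF (tget Tb) (S.B i) w)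

/-- All letters of a word are in range. -/
noncomputable def lettersOK (k : Nat) (w : List Nat) : Bool := checkLetters k [w]

end Kernel

theorem allBlock_of (d : Nat) : ∀ (s : Nat) (p : Nat → Bool),
    (∀ i < (s + 1) * 2 ^ d, p i = true) → allBlock d s p = true := by
  induction d with
  | zero => intro s p h; exact h s (by simp)
  | succ d ih =>
    intro s p h
    change cond (allBlock d (2 * s) p) (allBlock d (2 * s + 1) p) false = true
    have e : (s + 1) * 2 ^ (d + 1) = (2 * s + 1 + 1) * 2 ^ d := by rw [pow_succ]; ring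
    refine cond_false_eq_true.mpr ⟨ih _ _ fun i hi => h i ?_, ih _ _ fun i hi => h i ?_⟩
    · refine hi.trans_le ?_
      rw [e]
      exact Nat.mul_le_mul_right _ (by omega)
    · rw [e]; exact hi

theorem allBelow_of {d n : Nat} {p : Nat → Bool} (hn : n ≤ 2 ^ d) (h : ∀ i < n, p i = true) :
    allBelow d n p = true := by
  refine cond_false_eq_true.mpr ⟨Nat.ble_eq.mpr hn, allBlock_of d 0 _ fun i _ => ?_⟩
  cases hh : Nat.ble n i
  · rw [cond_false]
    refine h i ?_
    by_contra hc
    rw [Nat.ble_eq.mpr (Nat.le_of_not_lt hc)] at hh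
    exact Bool.noConfusion hh
  · rfl

theorem force_eq {α : Type} (x : Nat) (f : Nat → α) : force x f = f x := by cases x <;> rfl

theorem follow_append_list (t : Nat → Nat → Nat) : ∀ (u w : List Nat) (i : Nat),
    follow t i (u ++ w) = follow t (follow t i u) w := by
  intro u
  induction u with
  | nil => intro w i; rfl
  | cons l u ih => intro w i; exact ih w _

theorem followF_eq (t : Nat → Nat → Nat) : ∀ (w : List Nat) (i : Nat),
    followF t i w = follow t i w := by
  intro w
  induction w with
  | nil => intro i; rfl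
  | cons l w ih =>
    intro i
    show force (t i l) (fun j => followF t j w) = follow t (t i l) w
    rw [force_eq, ih]

theorem followI_eq (t : Nat → Nat → Nat) (iv : Nat → Nat) : ∀ (w : List Nat) (i : Nat),
    followI t iv i w = follow t i (invWd iv w) := by
  intro w
  induction w with
  | nil => intro i; rfl
  | cons l w ih =>
    intro i
    show force (followI t iv i w) (fun p => t p (iv l)) = follow t i (invWd iv w ++ [iv l])
    rw [force_eq, follow_append_list, ih]
    rfl

variable {G : Type*} [Group G] {n : Nat}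

/-- The image of a point in the direction of the table. -/
def im (ρ : G →* Equiv.Perm (Fin n)) (x : G) (b : Nat) : Nat :=
  if h : b < n then ((ρ x)⁻¹ ⟨b, h⟩ : Fin n) else b

variable {ρ : G →* Equiv.Perm (Fin n)}

theorem im_pos (x : G) {b : Nat} (hb : b < n) :
    im ρ x b = (((ρ x)⁻¹ ⟨b, hb⟩ : Fin n) : Nat) := dif_pos hb

theorem im_neg (x : G) {b : Nat} (hb : ¬ b < n) : im ρ x b = b := dif_neg hb

theorem im_lt (x : G) {b : Nat} (hb : b < n) : im ρ x b < n := by
  rw [im_pos x hb]; exact Fin.isLt _

theorem im_one (b : Nat) : im ρ 1 b = b := by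
  by_cases hb : b < n
  · rw [im_pos 1 hb]; simp
  · rw [im_neg 1 hb]

theorem im_mul (x y : G) (b : Nat) : im ρ (x * y) b = im ρ y (im ρ x b) := by
  by_cases hb : b < n
  · rw [im_pos (x * y) hb, im_pos y (im_lt x hb), map_mul, mul_inv_rev, Equiv.Perm.mul_apply]
    congr 2
    exact Fin.ext (im_pos x hb).symm
  · rw [im_neg x hb, im_neg y hb, im_neg (x * y) hb]

theorem im_injective (x : G) {a b : Nat} (h : im ρ x a = im ρ x b) : a = b := by
  have := congrArg (im ρ x⁻¹) h
  rwa [← im_mul, ← im_mul, mul_inv_cancel, im_one, im_one] at this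

variable {L : List G} {Tb : Nat → Nat}

theorem im_ev (hm : Matches L ρ Tb) {w : List Nat} (hw : ∀ l ∈ w, l < L.length) {b : Nat}
    (hb : b < n) : im ρ (ev L w) b = follow (tget Tb) b w := by
  rw [im, dif_pos hb]; exact hm.follow_eq w ⟨b, hb⟩ hw

theorem follow_lt (hm : Matches L ρ Tb) {w : List Nat} (hw : ∀ l ∈ w, l < L.length) {b : Nat}
    (hb : b < n) : follow (tget Tb) b w < n := by
  rw [← im_ev hm hw hb]; exact im_lt _ hb

theorem ev_invWd {iv : Nat → Nat} (hiv : ∀ l, fl L (iv l) = (fl L l)⁻¹) : ∀ w : List Nat,
    ev L (invWd iv w) = (ev L w)⁻¹ := by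
  intro w
  induction w with
  | nil => simp [invWd]
  | cons l w ih =>
    show ev L (invWd iv w ++ [iv l]) = _
    rw [ev_append, ev_cons, ev_cons, ev_nil, mul_one, ih, mul_inv_rev, hiv]

theorem invWd_letters {iv : Nat → Nat} {k : Nat} (hk : ∀ l < k, iv l < k) : ∀ w : List Nat,
    (∀ l ∈ w, l < k) → ∀ l ∈ invWd iv w, l < k := by
  intro w
  induction w with
  | nil => intro _ l hl; simp [invWd] at hl
  | cons a w ih =>
    intro hw l hl
    change l ∈ invWd iv w ++ [iv a] at hl
    rcases List.mem_append.mp hl with h | h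
    · exact ih (fun y hy => hw y (by simp [hy])) l h
    · rw [List.mem_singleton.mp h]
      exact hk a (hw a (by simp))

/-- The certificate is right for the group. -/
structure SiftData.Valid (S : SiftData) (L : List G) (ρ : G →* Equiv.Perm (Fin n))
    (Tb : Nat → Nat) : Prop where
  hm : Matches L ρ Tb
  inv : ∀ l, fl L (S.iv l) = (fl L l)⁻¹
  inv_lt : ∀ l < L.length, S.iv l < L.length
  lev : ∀ i < S.k, ∃ d, S.checkLev Tb n L.length d i = true
  card : Nat.card G = ∏ i : Fin S.k, S.m i
  fin : Finite G

namespace SiftData.Valid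

variable {S : SiftData}

theorem base_lt (V : S.Valid L ρ Tb) {i : Nat} (hi : i < S.k) : S.B i < n := by
  obtain ⟨d, h⟩ := V.lev i hi
  exact Nat.ble_eq.mp (cond_false_eq_true.mp h).1

theorem wd_ok (V : S.Valid L ρ Tb) {i : Nat} (hi : i < S.k) {j : Nat} (hj : j < S.m i) :
    (∀ l ∈ S.wd i j, l < L.length) ∧
    (∀ h < i, follow (tget Tb) (S.B h) (S.wd i j) = S.B h) ∧
    S.I i (follow (tget Tb) (S.B i) (S.wd i j)) = j := by
  obtain ⟨d, h⟩ := V.lev i hi
  have h1 := cond_false_eq_true.mp (of_allBelow (cond_false_eq_true.mp h).2 j hj)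
  have h2 := cond_false_eq_true.mp h1.2
  exact ⟨letters_lt h1.1 _ (List.mem_singleton_self _),
    fun g hg => Nat.eq_of_beq_eq_true (of_allBelow h2.1 g hg), Nat.eq_of_beq_eq_true h2.2⟩

theorem elw_letters (V : S.Valid L ρ Tb) {j : Nat → Nat} (hj : ∀ i < S.k, j i < S.m i) :
    ∀ i ≤ S.k, ∀ l ∈ S.elw i j, l < L.length := by
  intro i
  induction i with
  | zero => intro _ l hl; simp [SiftData.elw] at hl
  | succ i ih =>
    intro hi l hl
    rcases List.mem_append.mp hl with h | h
    · exact (V.wd_ok hi (hj i hi)).1 l h
    · exact ih (by omega) l h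

theorem elw_base (V : S.Valid L ρ Tb) {j : Nat → Nat} (hj : ∀ i < S.k, j i < S.m i) {h : Nat} :
    ∀ i ≤ S.k, h < i → follow (tget Tb) (S.B h) (S.elw i j) =
      follow (tget Tb) (follow (tget Tb) (S.B h) (S.wd h (j h))) (S.elw h j) := by
  intro i
  induction i with
  | zero => intro _ hh; omega
  | succ i ih =>
    intro hi hh
    show follow (tget Tb) (S.B h) (S.wd i (j i) ++ S.elw i j) = _
    rw [follow_append_list]
    rcases Nat.lt_succ_iff_lt_or_eq.mp hh with hlt | rfl
    · rw [(V.wd_ok hi (hj i hi)).2.1 h hlt, ih (by omega) hlt]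
    · rfl

theorem elw_inj (V : S.Valid L ρ Tb) {j j' : Nat → Nat} (hj : ∀ i < S.k, j i < S.m i)
    (hj' : ∀ i < S.k, j' i < S.m i)
    (h : ∀ i < S.k, follow (tget Tb) (S.B i) (S.elw S.k j) =
      follow (tget Tb) (S.B i) (S.elw S.k j')) : ∀ i < S.k, j i = j' i := by
  have key : ∀ i ≤ S.k, S.elw i j = S.elw i j' ∧ ∀ h < i, j h = j' h := by
    intro i
    induction i with
    | zero => intro _; exact ⟨rfl, fun h hh => absurd hh (by omega)⟩
    | succ i ih =>
      intro hi
      obtain ⟨he, hs⟩ := ih (by omega)
      have e := h i hi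
      rw [V.elw_base hj S.k le_rfl hi, V.elw_base hj' S.k le_rfl hi, ← he] at e
      have hl := V.elw_letters hj i (by omega)
      rw [← im_ev V.hm hl (follow_lt V.hm (V.wd_ok hi (hj i hi)).1 (V.base_lt hi)),
        ← im_ev V.hm hl (follow_lt V.hm (V.wd_ok hi (hj' i hi)).1 (V.base_lt hi))] at e
      have e2 := congrArg (S.I i) (im_injective _ e)
      rw [(V.wd_ok hi (hj i hi)).2.2, (V.wd_ok hi (hj' i hi)).2.2] at e2
      refine ⟨?_, fun g hg => ?_⟩
      · show S.wd i (j i) ++ S.elw i j = S.wd i (j' i) ++ S.elw i j'
        rw [e2, he]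
      · rcases Nat.lt_succ_iff_lt_or_eq.mp hg with hlt | rfl
        · exact hs g hlt
        · exact e2
  exact fun i hi => (key (i + 1) hi).2 i (by omega)

/-- Coordinates extended to all numbers. -/
def ext0 (S : SiftData) (p : (i : Fin S.k) → Fin (S.m i)) (i : Nat) : Nat :=
  if h : i < S.k then (p ⟨i, h⟩ : Nat) else 0

theorem ext0_lt (p : (i : Fin S.k) → Fin (S.m i)) : ∀ i < S.k, ext0 S p i < S.m i := by
  intro i hi
  rw [ext0, dif_pos hi]
  exact (p ⟨i, hi⟩).isLt

theorem exists_elw (V : S.Valid L ρ Tb) (x : G) :
    ∃ j : Nat → Nat, (∀ i < S.k, j i < S.m i) ∧ x = ev L (S.elw S.k j) := by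
  have := V.fin
  have hbij : Function.Bijective (fun p : (i : Fin S.k) → Fin (S.m i) =>
      ev L (S.elw S.k (ext0 S p))) := by
    refine (Nat.bijective_iff_injective_and_card _).mpr ⟨fun p q h => ?_, ?_⟩
    · funext i
      have := V.elw_inj (ext0_lt p) (ext0_lt q) (fun i hi => by
        rw [← im_ev V.hm (V.elw_letters (ext0_lt p) _ le_rfl) (V.base_lt hi),
          ← im_ev V.hm (V.elw_letters (ext0_lt q) _ le_rfl) (V.base_lt hi)]
        exact congrArg (fun g => im ρ g (S.B i)) h) i i.isLt
      simp only [ext0, dif_pos i.isLt] at this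
      exact Fin.ext this
    · rw [V.card, Nat.card_pi]; simp
  obtain ⟨p, hp⟩ := hbij.2 x
  exact ⟨_, ext0_lt p, hp.symm⟩

/-- An element is determined by the images of the base. -/
theorem ext (V : S.Valid L ρ Tb) {x y : G} (h : ∀ i < S.k, im ρ x (S.B i) = im ρ y (S.B i)) :
    x = y := by
  obtain ⟨j, hj, rfl⟩ := V.exists_elw x
  obtain ⟨j', hj', rfl⟩ := V.exists_elw y
  have e := V.elw_inj hj hj' fun i hi => by
    rw [← im_ev V.hm (V.elw_letters hj _ le_rfl) (V.base_lt hi),
      ← im_ev V.hm (V.elw_letters hj' _ le_rfl) (V.base_lt hi)]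
    exact h i hi
  have key : ∀ i ≤ S.k, S.elw i j = S.elw i j' := by
    intro i
    induction i with
    | zero => intro _; rfl
    | succ i ih =>
      intro hi
      show S.wd i (j i) ++ S.elw i j = S.wd i (j' i) ++ S.elw i j'
      rw [e i hi, ih (by omega)]
  rw [key _ le_rfl]

theorem eqB_iff (V : S.Valid L ρ Tb) (hk : S.k ≤ 8) {u w : List Nat}
    (hu : ∀ l ∈ u, l < L.length) (hw : ∀ l ∈ w, l < L.length) :
    S.eqB Tb u w = true ↔ ev L u = ev L w := by
  constructor
  · intro h
    refine V.ext fun i hi => ?_
    rw [im_ev V.hm hu (V.base_lt hi), im_ev V.hm hw (V.base_lt hi)]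
    simpa only [followF_eq] using Nat.eq_of_beq_eq_true (of_allBelow h i hi)
  · intro h
    refine allBelow_of (by simpa using hk) fun i hi => ?_
    rw [followF_eq, followF_eq, ← im_ev V.hm hu (V.base_lt hi), ← im_ev V.hm hw (V.base_lt hi), h]
    exact Nat.beq_refl _

theorem eq_of_eqB (V : S.Valid L ρ Tb) {u w : List Nat}
    (hl : checkLetters L.length [u, w] = true) (h : S.eqB Tb u w = true) : ev L u = ev L w := by
  refine V.ext fun i hi => ?_
  rw [im_ev V.hm (letters_lt hl u (by simp)) (V.base_lt hi),
    im_ev V.hm (letters_lt hl w (by simp)) (V.base_lt hi)]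
  simpa only [followF_eq] using Nat.eq_of_beq_eq_true (of_allBelow h i hi)

theorem ne_of_eqB (V : S.Valid L ρ Tb) (hk : S.k ≤ 8) {u w : List Nat}
    (hl : checkLetters L.length [u, w] = true) (h : S.eqB Tb u w = false) :
    ev L u ≠ ev L w := fun e => by
  rw [(V.eqB_iff hk (letters_lt hl u (by simp)) (letters_lt hl w (by simp))).mpr e] at h
  exact Bool.noConfusion h

/-- Sifting finds an element from the images of the base. -/
theorem sift_eq (V : S.Valid L ρ Tb) {x : G} {img : Nat → Nat}
    (h : ∀ i < S.k, img i = im ρ x (S.B i)) :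
    ∃ w, S.sift Tb img S.k = some w ∧ (∀ l ∈ w, l < L.length) ∧ ev L w = x := by
  obtain ⟨j, hj, rfl⟩ := V.exists_elw x
  have key : ∀ i ≤ S.k, S.sift Tb img i = some (S.elw i j) := by
    intro i
    induction i with
    | zero => intro _; rfl
    | succ i ih =>
      intro hi
      have hl := V.elw_letters hj i (by omega)
      have hw := V.wd_ok hi (hj i hi)
      have hp := follow_lt V.hm hw.1 (V.base_lt hi)
      have e : follow (tget Tb) (img i) (invWd S.iv (S.elw i j)) =
          follow (tget Tb) (S.B i) (S.wd i (j i)) := by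
        rw [h i hi, im_ev V.hm (V.elw_letters hj _ le_rfl) (V.base_lt hi),
          V.elw_base hj S.k le_rfl hi, ← im_ev V.hm hl hp,
          ← im_ev V.hm (invWd_letters V.inv_lt _ hl) (im_lt _ hp), ← im_mul,
          ev_invWd V.inv, mul_inv_cancel, im_one]
      show Option.rec (motive := fun _ => Option (List Nat)) none (fun acc =>
        force (followI (tget Tb) S.iv (img i) acc) fun p => force (S.I i p) fun j =>
          cond (Nat.ble (Nat.add j 1) (S.m i)) (some (S.wd i j ++ acc)) none) (S.sift Tb img i) = _
      rw [ih (by omega)]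
      show force (followI (tget Tb) S.iv (img i) (S.elw i j)) (fun p => force (S.I i p) fun t =>
        cond (Nat.ble (Nat.add t 1) (S.m i)) (some (S.wd i t ++ S.elw i j)) none) = _
      rw [force_eq, force_eq, followI_eq]
      rw [e, hw.2.2, show Nat.ble (Nat.add (j i) 1) (S.m i) = true from Nat.ble_eq.mpr (hj i hi),
        cond_true]
      rfl
  exact ⟨_, key _ le_rfl, V.elw_letters hj _ le_rfl, rfl⟩

theorem of_siftAll (V : S.Valid L ρ Tb) {x : G} {img : Nat → Nat} {p : List Nat → Bool}
    (h : ∀ i < S.k, img i = im ρ x (S.B i)) (hs : S.siftAll Tb img p = true) :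
    ∃ w, (∀ l ∈ w, l < L.length) ∧ ev L w = x ∧ p w = true := by
  obtain ⟨w, hw, hl, he⟩ := V.sift_eq h
  rw [SiftData.siftAll, hw] at hs
  exact ⟨w, hl, he, hs⟩

end SiftData.Valid

end CfsgLib.Coset
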