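import Cfsg.Agent.Coset.Table
import Cfsg.Prelude.Def_SporCoxeter
import Mathlib.GroupTheory.PresentedGroup
import Mathlib.GroupTheory.FreeGroup.Reduce

/-!
Coxeter-style presentations all of whose generators are involutions, read as lists of words.
-/

set_option autoImplicit false

namespace CfsgLib.Coset

open Cfsg.Spor (coxNodes coxLabel coxRelators CoxPresented)

variable {α : Type} [DecidableEq α]

/-- The word `(x y) ^ m(x, y)`. -/
def coxWord (edges : List (α × ℕ × α)) (x y : α) : List α :=
  (List.replicate (coxLabel edges x y) [x, y]).flatten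

/-- One word for each unordered pair from a list. -/
def coxList (edges : List (α × ℕ × α)) : List α → List (List α)
  | [] => []
  | x :: t => (x :: t).map (coxWord edges x) ++ coxList edges t

/-- The letters of a reduced word, forgetting the exponents. -/
def flat (r : FreeGroup α) : List α := r.toWord.map Prod.fst

/-- All relators as words in numbers. -/
def relList (edges : List (α × ℕ × α)) (nodes : List α) (extra : List (FreeGroup α)) (ix : α → Nat) :
    List (List Nat) :=
  (coxList edges nodes ++ extra.map flat).map (List.map ix)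

theorem coxLabel_symm_or (edges : List (α × ℕ × α)) (x y : α) :
    coxLabel edges x y = coxLabel edges y x := by
  unfold Cfsg.Spor.coxLabel
  by_cases h : x = y
  · subst h; rfl
  · rw [if_neg h, if_neg (Ne.symm h)]
    have : (fun e : α × ℕ × α => decide ((e.1 = x ∧ e.2.2 = y) ∨ (e.1 = y ∧ e.2.2 = x))) =
        (fun e : α × ℕ × α => decide ((e.1 = y ∧ e.2.2 = x) ∨ (e.1 = x ∧ e.2.2 = y))) := by
      funext e; exact decide_eq_decide.mpr or_comm
    rw [this]

theorem mem_coxList (edges : List (α × ℕ × α)) : ∀ (nodes : List α) {x y : α},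
    x ∈ nodes → y ∈ nodes →
      coxWord edges x y ∈ coxList edges nodes ∨ coxWord edges y x ∈ coxList edges nodes := by
  intro nodes
  induction nodes with
  | nil => intro x y hx _; simp at hx
  | cons a t ih =>
    intro x y hx hy
    simp only [coxList, List.mem_append]
    rcases List.mem_cons.mp hx with rfl | hx'
    · exact Or.inl (Or.inl (List.mem_map.mpr ⟨y, hy, rfl⟩))
    · rcases List.mem_cons.mp hy with rfl | hy'
      · exact Or.inr (Or.inl (List.mem_map.mpr ⟨x, hx, rfl⟩))
      · exact (ih hx' hy').imp Or.inr Or.inr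

theorem of_mem_coxList (edges : List (α × ℕ × α)) : ∀ (nodes : List α) {w : List α},
    w ∈ coxList edges nodes → ∃ x ∈ nodes, ∃ y ∈ nodes, w = coxWord edges x y := by
  intro nodes
  induction nodes with
  | nil => intro w hw; simp [coxList] at hw
  | cons a t ih =>
    intro w hw
    simp only [coxList, List.mem_append, List.mem_map] at hw
    rcases hw with ⟨y, hy, rfl⟩ | hw
    · exact ⟨a, by simp, y, hy, rfl⟩
    · obtain ⟨x, hx, y, hy, rfl⟩ := ih hw
      exact ⟨x, by simp [hx], y, by simp [hy], rfl⟩

variable {X : Type*} [Group X] {L : List X} {ix : α → Nat}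

theorem ev_map (w : List α) : ev L (w.map ix) = (w.map fun x => fl L (ix x)).prod := by
  simp [ev, Function.comp_def]

theorem ev_coxWord (edges : List (α × ℕ × α)) (x y : α) :
    ev L ((coxWord edges x y).map ix) = (fl L (ix x) * fl L (ix y)) ^ coxLabel edges x y := by
  rw [ev_map, coxWord]
  generalize coxLabel edges x y = m
  induction m with
  | zero => simp
  | succ m ih =>
    simp only [List.replicate_succ, List.flatten_cons, List.map_append, List.prod_append, ih, pow_succ']
    simp [mul_assoc]

theorem lift_eq_ev_flat (h2 : ∀ x, fl L (ix x) * fl L (ix x) = 1) (r : FreeGroup α) :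
    FreeGroup.lift (fun x => fl L (ix x)) r = ev L ((flat r).map ix) := by
  conv_lhs => rw [← FreeGroup.mk_toWord (x := r)]
  rw [FreeGroup.lift_mk, ev_map, flat, List.map_map]
  congr 1
  apply List.map_congr_left
  rintro ⟨x, b⟩ -
  cases b
  · simpa using inv_eq_of_mul_eq_one_right (h2 x)
  · rfl

/-- The data identifying a presentation with lists of words. -/
structure PresData (α : Type) [DecidableEq α] where
  /-- the Coxeter graph -/
  edges : List (α × ℕ × α)
  /-- all nodes, in the chosen order -/
  nodes : List α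
  /-- further relators -/
  extra : List (FreeGroup α)
  /-- index of a generator -/
  ix : α → Nat

/-- The conditions on `PresData`. -/
structure PresData.OK (D : PresData α) : Prop where
  cover : ∀ x : α, x ∈ coxNodes D.edges ∧ x ∈ D.nodes ∧ D.nodes[D.ix x]? = some x

/-- The group presented by the data. -/
abbrev PresData.Gr (D : PresData α) : Type := CoxPresented α D.edges D.extra

/-- The generators. -/
def PresData.gens (D : PresData α) : List D.Gr := D.nodes.map PresentedGroup.of

/-- The relators as words. -/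
def PresData.rels (D : PresData α) : List (List Nat) := relList D.edges D.nodes D.extra D.ix

variable {D : PresData α}

theorem PresData.fl_gens (hD : D.OK) (x : α) : fl D.gens (D.ix x) = PresentedGroup.of x := by
  simp [fl, PresData.gens, List.getD_eq_getElem?_getD, (hD.cover x).2.2]

theorem PresData.closure_gens (hD : D.OK) : Subgroup.closure {x | x ∈ D.gens} = ⊤ := by
  rw [eq_top_iff, ← PresentedGroup.closure_range_of]
  refine Subgroup.closure_mono ?_
  rintro _ ⟨x, rfl⟩
  exact List.mem_map.mpr ⟨x, (hD.cover x).2.1, rfl⟩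

theorem PresData.gens_sq (hD : D.OK) (x : α) :
    (PresentedGroup.of x : D.Gr) * PresentedGroup.of x = 1 := by
  have h : PresentedGroup.mk (coxRelators D.edges ∪ {r | r ∈ D.extra})
      ((FreeGroup.of x * FreeGroup.of x) ^ coxLabel D.edges x x) = 1 :=
    PresentedGroup.one_of_mem (Set.mem_union_left _ ⟨x, (hD.cover x).1, x, (hD.cover x).1, rfl⟩)
  simpa [Cfsg.Spor.coxLabel, PresentedGroup.of] using h

theorem PresData.ev_rels (hD : D.OK) : ∀ w ∈ D.rels, ev D.gens w = 1 := by
  intro w hw
  obtain ⟨v, hv, rfl⟩ := List.mem_map.mp hw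
  rcases List.mem_append.mp hv with hv | hv
  · obtain ⟨x, hx, y, hy, rfl⟩ := of_mem_coxList _ _ hv
    have h : PresentedGroup.mk (coxRelators D.edges ∪ {r | r ∈ D.extra})
        ((FreeGroup.of x * FreeGroup.of y) ^ coxLabel D.edges x y) = 1 :=
      PresentedGroup.one_of_mem (Set.mem_union_left _ ⟨x, (hD.cover x).1, y, (hD.cover y).1, rfl⟩)
    rw [ev_coxWord, D.fl_gens hD, D.fl_gens hD]
    simpa [PresentedGroup.of] using h
  · obtain ⟨r, hr, rfl⟩ := List.mem_map.mp hv
    have h : PresentedGroup.mk (coxRelators D.edges ∪ {r | r ∈ D.extra}) r = 1 :=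
      PresentedGroup.one_of_mem (Set.mem_union_right _ hr)
    rw [← lift_eq_ev_flat (L := D.gens) (fun x => by rw [D.fl_gens hD]; exact D.gens_sq hD x)]
    rw [← h]
    congr 1
    refine FreeGroup.ext_hom _ _ fun x => ?_
    simp [D.fl_gens hD, PresentedGroup.of]

theorem PresData.lift_eq_one (hD : D.OK) (h : ∀ w ∈ D.rels, ev L w = 1) :
    ∀ r ∈ coxRelators D.edges ∪ {r | r ∈ D.extra},
      FreeGroup.lift (fun x => fl L (D.ix x)) r = 1 := by
  have hpair : ∀ x y, ev L ((coxWord D.edges x y).map D.ix) = 1 ∨
      ev L ((coxWord D.edges y x).map D.ix) = 1 := fun x y =>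
    (mem_coxList D.edges D.nodes (hD.cover x).2.1 (hD.cover y).2.1).imp
      (fun hm => h _ (List.mem_map.mpr ⟨_, List.mem_append_left _ hm, rfl⟩))
      (fun hm => h _ (List.mem_map.mpr ⟨_, List.mem_append_left _ hm, rfl⟩))
  have h2 : ∀ x, fl L (D.ix x) * fl L (D.ix x) = 1 := fun x => by
    rcases hpair x x with h | h <;> simpa [ev_coxWord, Cfsg.Spor.coxLabel] using h
  rintro r (⟨x, -, y, -, rfl⟩ | hr)
  · simp only [map_pow, map_mul, FreeGroup.lift_apply_of]
    rcases hpair x y with hh | hh
    · rwa [ev_coxWord] at hh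
    · rw [ev_coxWord, coxLabel_symm_or] at hh
      have e : fl L (D.ix x) * fl L (D.ix y) = (fl L (D.ix y) * fl L (D.ix x))⁻¹ := by
        rw [mul_inv_rev, inv_eq_of_mul_eq_one_right (h2 x), inv_eq_of_mul_eq_one_right (h2 y)]
      rw [e, inv_pow, hh, inv_one]
  · rw [lift_eq_ev_flat h2]
    exact h _ (List.mem_map.mpr ⟨_, List.mem_append_right _ (List.mem_map.mpr ⟨r, hr, rfl⟩), rfl⟩)

/-- The homomorphism to a group satisfying the relators. -/
def PresData.hom (hD : D.OK) (h : ∀ w ∈ D.rels, ev L w = 1) : D.Gr →* X :=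
  PresentedGroup.toGroup (D.lift_eq_one hD h)

theorem PresData.hom_fl (hD : D.OK) (h : ∀ w ∈ D.rels, ev L w = 1) (x : α) :
    D.hom hD h (fl D.gens (D.ix x)) = fl L (D.ix x) := by
  rw [D.fl_gens hD]; exact PresentedGroup.toGroup.of _

section Perm

variable {iv : Nat → Nat} {n k dn dk : Nat} {Tb : Nat → Nat}

theorem PresData.matches_hom (hD : D.OK) (hk : D.nodes.length = k)
    (hix : ∀ l < k, ∃ x, D.ix x = l)
    (hp : checkPerm iv n k dn dk Tb = true)
    (h : ∀ w ∈ D.rels, ev (sigList hp) w = 1) :
    Matches D.gens (D.hom hD h) Tb := by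
  intro l hl i
  have hl' : l < k := by simpa [PresData.gens, hk] using hl
  obtain ⟨x, rfl⟩ := hix l hl'
  rw [D.hom_fl hD, fl_sigList, sig_symm_apply hp hl']

end Perm

end CfsgLib.Coset
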