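import Mathlib.Algebra.Group.Defs
import Mathlib.Logic.Basic
import Mathlib.Data.List.Basic
import Mathlib.Data.Nat.Basic
import Mathlib.Algebra.Ring.Nat

/-!
Kernel-friendly primitives for certificate checking: everything is written with recursors and the
`Nat` operations that have binary implementations in the kernel.
-/

set_option autoImplicit false

namespace CfsgLib.Coset

/-- The field mask (24 bits). -/
def fmask : Nat := 16777215

/-- `allBlock d s p` checks `p` on the interval `[s * 2^d, (s+1) * 2^d)`. -/
noncomputable def allBlock : Nat → Nat → (Nat → Bool) → Bool :=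
  fun d => Nat.rec (fun s p => p s)
    (fun _ ih s p => cond (ih (Nat.mul 2 s) p) (ih (Nat.add (Nat.mul 2 s) 1) p) false) d

/-- `allBelow d n p` checks `p` on every `i < n`; needs `n ≤ 2^d`. -/
noncomputable def allBelow (d n : Nat) (p : Nat → Bool) : Bool :=
  cond (Nat.ble n (Nat.pow 2 d)) (allBlock d 0 (fun i => cond (Nat.ble n i) true (p i))) false

theorem cond_false_eq_true {b c : Bool} : cond b c false = true ↔ b = true ∧ c = true := by
  cases b <;> simp

theorem allBlock_iff (d : Nat) : ∀ (s : Nat) (p : Nat → Bool),
    allBlock d s p = true → ∀ i, s * 2 ^ d ≤ i → i < (s + 1) * 2 ^ d → p i = true := by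
  induction d with
  | zero =>
    intro s p h i h1 h2
    simp only [pow_zero, mul_one] at h1 h2
    have : i = s := by omega
    subst this
    exact h
  | succ d ih =>
    intro s p h i h1 h2
    change cond (allBlock d (2 * s) p) (allBlock d (2 * s + 1) p) false = true at h
    rw [cond_false_eq_true] at h
    rw [pow_succ] at h1 h2
    have e1 : s * (2 ^ d * 2) = 2 * s * 2 ^ d := by
      rw [Nat.mul_comm (2 ^ d) 2, ← Nat.mul_assoc, Nat.mul_comm s 2]
    have e2 : (s + 1) * (2 ^ d * 2) = (2 * s + 1 + 1) * 2 ^ d := by
      rw [Nat.mul_comm (2 ^ d) 2, ← Nat.mul_assoc]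
      congr 1; omega
    rw [e1] at h1; rw [e2] at h2
    by_cases hh : i < (2 * s + 1) * 2 ^ d
    · exact ih _ _ h.1 i h1 hh
    · exact ih _ _ h.2 i (by omega) h2

theorem of_allBelow {d n : Nat} {p : Nat → Bool} (h : allBelow d n p = true) :
    ∀ i, i < n → p i = true := by
  intro i hi
  rw [allBelow, cond_false_eq_true] at h
  have hn : n ≤ 2 ^ d := Nat.ble_eq.mp h.1
  have := allBlock_iff d 0 _ h.2 i (by simp) (by simp; omega)
  have hf : Nat.ble n i = false := by
    rw [← Bool.not_eq_true, Nat.ble_eq]; omega
  rw [hf] at this
  exact this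

/-- Binary trees, used as lookup tables. -/
inductive Tr (α : Type) where
  | leaf : α → Tr α
  | node : Tr α → Tr α → Tr α

/-- Lookup in a tree by the binary digits of the index, least significant first. -/
noncomputable def Tr.get {α : Type} (t : Tr α) : Nat → α :=
  Tr.rec (fun v _ => v)
    (fun _ _ gl gr i => cond (Nat.beq (Nat.land i 1) 0) (gl (Nat.shiftRight i 1)) (gr (Nat.shiftRight i 1))) t

/-- All leaves satisfy a Boolean test. -/
noncomputable def Tr.all {α : Type} (t : Tr α) (p : α → Bool) : Bool :=
  Tr.rec (fun v => p v) (fun _ _ al ar => cond al ar false) t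

theorem Tr.get_all {α : Type} {p : α → Bool} : ∀ (t : Tr α), t.all p = true → ∀ i, p (t.get i) = true := by
  intro t
  induction t with
  | leaf v => intro h i; exact h
  | node l r ihl ihr =>
    intro h i
    change cond (l.all p) (r.all p) false = true at h
    rw [cond_false_eq_true] at h
    change p (cond (Nat.beq (Nat.land i 1) 0) (l.get (Nat.shiftRight i 1)) (r.get (Nat.shiftRight i 1))) = true
    cases Nat.beq (Nat.land i 1) 0
    · exact ihr h.2 _
    · exact ihl h.1 _

/-- The `j`-th 24-bit field of a packed number. -/
noncomputable def field (v j : Nat) : Nat := Nat.land (Nat.shiftRight v (Nat.mul 24 j)) fmask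

/-- Follow a word through a transition function. -/
noncomputable def follow (t : Nat → Nat → Nat) (i : Nat) (w : List Nat) : Nat :=
  List.rec (fun i => i) (fun l _ ih i => ih (t i l)) w i

theorem follow_nil (t : Nat → Nat → Nat) (i : Nat) : follow t i [] = i := rfl

theorem follow_cons (t : Nat → Nat → Nat) (i l : Nat) (w : List Nat) :
    follow t i (l :: w) = follow t (t i l) w := rfl

theorem follow_append (t : Nat → Nat → Nat) (i : Nat) (u v : List Nat) :
    follow t i (u ++ v) = follow t (follow t i u) v := by
  induction u generalizing i with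
  | nil => rfl
  | cons l u ih => exact ih (t i l)

end CfsgLib.Coset
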