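import Cfsg.Agent.Coset.Table
import Cfsg.Agent.Coset.Blocks

/-!
A second packing of a permutation table, with small leaves, for checks that make many lookups.
-/

set_option autoImplicit false

namespace CfsgLib.Coset

section Kernel

/-- The new row is the old one, cut to `k` fields. -/
noncomputable def sameRow (Tb Tb' : Nat → Nat) (k i : Nat) : Bool :=
  Nat.beq (Tb' i) (Nat.land (Tb i) (Nat.sub (Nat.pow 2 (Nat.mul 24 k)) 1))

end Kernel

theorem field_land {v k l : Nat} (hl : l < k) :
    field (Nat.land v (Nat.sub (Nat.pow 2 (Nat.mul 24 k)) 1)) l = field v l := by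
  show ((v &&& (2 ^ (24 * k) - 1)) >>> (24 * l)) &&& fmask = (v >>> (24 * l)) &&& fmask
  rw [show fmask = 2 ^ 24 - 1 from rfl]
  apply Nat.eq_of_testBit_eq
  intro j
  simp only [Nat.testBit_and, Nat.testBit_shiftRight, Nat.testBit_two_pow_sub_one]
  by_cases hj : j < 24
  · have : 24 * l + j < 24 * k := by omega
    simp [this]
  · simp [hj]

variable {G : Type*} [Group G] {L : List G} {n : Nat} {ρ : G →* Equiv.Perm (Fin n)}
  {Tb Tb' : Nat → Nat}

theorem Matches.repack (hm : Matches L ρ Tb) {d : Nat}
    (h : allBelow d n (sameRow Tb Tb' L.length) = true) : Matches L ρ Tb' := by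
  intro l hl i
  rw [hm l hl i, tget, tget, Nat.eq_of_beq_eq_true (of_allBelow h i i.2), field_land hl]

theorem follow_congr {t t' : Nat → Nat → Nat} (h : ∀ i l, t i l = t' i l) :
    ∀ (w : List Nat) (i : Nat), follow t i w = follow t' i w := by
  intro w
  induction w with
  | nil => intro i; rfl
  | cons l w ih =>
    intro i
    show follow t (t i l) w = follow t' (t' i l) w
    rw [h, ih]

end CfsgLib.Coset
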